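/-
A class of involutions each fixing one point, any two at different points having product of odd
order, in a faithful action (owner: helper90).

Main results (namespace `Cfsg.Agent.RootConnected`, `P : OddClass G Ω D pt`):
* `product` : the product condition of `Aschbacher.PointClass` holds
* `mem_of_unique` : an involution with one fixed point lies in `D`
* `mul_mem` : the product of two commuting members lies in `D`
* `odd_card`, `pointClass` : an odd number of members at each point, so `D` is a point class.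
  No parity hypothesis is needed.
-/
import Cfsg.Agent.Lib.Aschbacher.Basic

set_option autoImplicit false
set_option linter.unusedSectionVars false

namespace Cfsg.Agent.RootConnected

open Cfsg Involution

universe u v

/-- A conjugation invariant set of involutions, each fixing one point, with odd products between
different points. -/
structure OddClass (G : Type u) (Ω : Type v) [Group G] [MulAction G Ω] (D : Set G) (pt : G → Ω) :
    Prop where
  inv : ∀ d ∈ D, orderOf d = 2
  conj_mem : ∀ g : G, ∀ d ∈ D, g * d * g⁻¹ ∈ D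
  fixed_iff : ∀ d ∈ D, ∀ p : Ω, d • p = p ↔ p = pt d
  odd_order : ∀ d ∈ D, ∀ e ∈ D, pt d ≠ pt e → Odd (orderOf (d * e))
  exists_at : ∀ p : Ω, ∃ d, d ∈ D ∧ pt d = p

namespace OddClass

variable {G : Type u} {Ω : Type v} [Group G] [MulAction G Ω] {D : Set G} {pt : G → Ω}
  (P : OddClass G Ω D pt)
include P

theorem smul_pt {d : G} (hd : d ∈ D) : d • pt d = pt d :=
  (P.fixed_iff d hd _).2 rfl

theorem smul_smul_self {d : G} (hd : d ∈ D) (p : Ω) : d • d • p = p := by
  rw [← mul_smul, Involution.mul_self (P.inv d hd), one_smul]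

theorem pt_conj (g : G) {d : G} (hd : d ∈ D) : pt (g * d * g⁻¹) = g • pt d := by
  refine ((P.fixed_iff _ (P.conj_mem g d hd) _).1 ?_).symm
  rw [mul_smul, mul_smul, inv_smul_smul, P.smul_pt hd]

theorem commute_fix {d c : G} (hd : d ∈ D) (hc : Commute c d) : c • pt d = pt d := by
  refine (P.fixed_iff d hd _).1 ?_
  rw [← mul_smul, ← hc.eq, mul_smul, P.smul_pt hd]

theorem pt_eq_of_commute {d e : G} (hd : d ∈ D) (he : e ∈ D) (h : Commute d e) : pt d = pt e :=
  (P.fixed_iff e he _).1 (P.commute_fix hd h.symm)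

theorem product {d e : G} (hd : d ∈ D) (he : e ∈ D) (hc : Commute d e) (hne : d ≠ e) {c : G}
    (hcu : Commute c (d * e)) : c • pt d = pt d := by
  by_contra hne'
  set u := d * e with hu
  set f := c * d * c⁻¹ with hf
  have hfD : f ∈ D := P.conj_mem c d hd
  have hfd : pt f ≠ pt d := by rw [hf, P.pt_conj c hd]; exact hne'
  have hfe : pt f ≠ pt e := by rwa [← P.pt_eq_of_commute hd he hc]
  have hdu : Commute d u := (Commute.refl d).mul_right hc
  have hfu : Commute f u := by
    have h := hdu.map (MulAut.conj c).toMonoidHom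
    simpa [hf, hcu.eq] using h
  have h1 := P.odd_order d hd f hfD hfd.symm
  have h2 := P.odd_order e he f hfD hfe.symm
  have he' : e * f = d * f * u := by
    calc e * f = (d * d) * e * f := by rw [Involution.mul_self (P.inv d hd), one_mul]
      _ = d * (u * f) := by rw [hu]; group
      _ = d * f * u := (congrArg (d * ·) hfu.eq.symm).trans (mul_assoc d f u).symm
  have hodd := h1.mul h2
  have hu2 : u * u = 1 := by
    calc u * u = d * (e * d) * e := by rw [hu]; group
      _ = (d * d) * (e * e) := by rw [← hc.eq]; group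
      _ = 1 := by rw [Involution.mul_self (P.inv d hd), Involution.mul_self (P.inv e he), one_mul]
  have h3 : (e * f) ^ (orderOf (d * f) * orderOf (e * f)) = 1 := by
    rw [mul_comm, pow_mul, pow_orderOf_eq_one, one_pow]
  rw [he', (hdu.mul_left hfu).mul_pow, pow_mul, pow_orderOf_eq_one, one_pow, one_mul] at h3
  obtain ⟨k, hk⟩ := hodd
  rw [← he', hk, pow_succ, pow_mul, sq, hu2, one_pow, one_mul, hu, mul_eq_one_iff_eq_inv,
    Involution.inv_eq (P.inv e he)] at h3
  exact hne h3

theorem pt_of_commute_product {d e c : G} (hd : d ∈ D) (he : e ∈ D) (hc : Commute d e) (hne : d ≠ e)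
    (hcD : c ∈ D) (hcu : Commute c (d * e)) : pt c = pt d :=
  ((P.fixed_iff c hcD _).1 (P.product hd he hc hne hcu)).symm

theorem exists_mid {e f : G} (he : e ∈ D) (hf : f ∈ D) (hne : pt e ≠ pt f) :
    ∃ w ∈ D, w * e * w⁻¹ = f ∧ w • pt e = pt f := by
  obtain ⟨l, hl⟩ := P.odd_order e he f hf hne
  have hpow : (e * f) ^ (2 * ((l + 1) * (l + 1))) = (e * f) ^ (l + 1) := by
    rw [show 2 * ((l + 1) * (l + 1)) = (2 * l + 1) * (l + 1) + (l + 1) by ring, pow_add, pow_mul,
      ← hl, pow_orderOf_eq_one, one_pow, one_mul]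
  have hD : e * (e * f) ^ ((l + 1 : ℕ) : ℤ) ∈ D := by
    have h := P.conj_mem ((e * f) ^ (-(((l + 1) * (l + 1) : ℕ) : ℤ))) e he
    rw [conj_left_zpow (P.inv e he) (P.inv f hf), mul_neg, neg_neg,
      show (2 : ℤ) * (((l + 1) * (l + 1) : ℕ) : ℤ) = ((2 * ((l + 1) * (l + 1)) : ℕ) : ℤ) by push_cast; ring,
      zpow_natCast, hpow] at h
    rwa [zpow_natCast]
  have hw : (e * (e * f) ^ ((l + 1 : ℕ) : ℤ)) * e * (e * (e * f) ^ ((l + 1 : ℕ) : ℤ))⁻¹ = f := by
    rw [conj_left_mul_zpow (P.inv e he) (P.inv f hf),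
      show (2 * ((l + 1 : ℕ) : ℤ)) = (orderOf (e * f) : ℤ) + 1 by rw [hl]; push_cast; ring,
      zpow_add_one, zpow_natCast, pow_orderOf_eq_one, one_mul,
      left_mul_mul_left (P.inv e he) (P.inv f hf)]
  refine ⟨_, hD, hw, ?_⟩
  rw [← P.pt_conj _ he, hw]

/-- As many members swap `x, y` as lie at `y`. -/
theorem card_swap [Finite G] [Finite Ω] {x y : Ω} (hxy : x ≠ y) :
    Nat.card {w : G // w ∈ D ∧ w • x = y} = Nat.card {f : G // f ∈ D ∧ pt f = y} := by
  classical
  haveI := Fintype.ofFinite Ω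
  let I := {p : Ω × Ω // p.1 ≠ p.2}
  have hge : ∀ p : I, Nat.card {f : G // f ∈ D ∧ pt f = p.1.2} ≤
      Nat.card {w : G // w ∈ D ∧ w • p.1.1 = p.1.2} := by
    intro p
    obtain ⟨e, he, hep⟩ := P.exists_at p.1.1
    choose w hw hwe hwp using fun f : {f : G // f ∈ D ∧ pt f = p.1.2} =>
      P.exists_mid he f.2.1 (by rw [hep, f.2.2]; exact p.2)
    refine Nat.card_le_card_of_injective
      (fun f => ⟨w f, hw f, by have := hwp f; rwa [hep, f.2.2] at this⟩) fun a b h => ?_
    simp only [Subtype.mk.injEq] at h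
    exact Subtype.ext (by rw [← hwe a, h, hwe b])
  have hsum : ∑ p : I, Nat.card {f : G // f ∈ D ∧ pt f = p.1.2} =
      ∑ p : I, Nat.card {w : G // w ∈ D ∧ w • p.1.1 = p.1.2} := by
    rw [← Nat.card_sigma, ← Nat.card_sigma]
    refine Nat.card_congr (Equiv.trans (β := {q : Ω × G // q.2 ∈ D ∧ q.1 ≠ pt q.2}) ?_ ?_)
    · exact
        { toFun := fun r => ⟨(r.1.1.1, r.2.1), r.2.2.1, fun h => r.1.2 (h.trans r.2.2.2)⟩
          invFun := fun q => ⟨⟨(q.1.1, pt q.1.2), q.2.2⟩, q.1.2, q.2.1, rfl⟩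
          left_inv := by rintro ⟨⟨⟨a, b⟩, hab⟩, f, hf, hb⟩; dsimp only at hb; subst hb; rfl
          right_inv := fun q => rfl }
    · exact
        { toFun := fun q => ⟨⟨(q.1.1, q.1.2 • q.1.1), fun h =>
              q.2.2 ((P.fixed_iff _ q.2.1 _).1 h.symm)⟩, q.1.2, q.2.1, rfl⟩
          invFun := fun r => ⟨(r.1.1.1, r.2.1), r.2.2.1, fun h => r.1.2
              (((P.fixed_iff _ r.2.2.1 _).2 h).symm.trans r.2.2.2)⟩
          left_inv := fun q => rfl
          right_inv := by rintro ⟨⟨⟨a, b⟩, hab⟩, w, hw, hb⟩; dsimp only at hb; subst hb; rfl }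
  exact ((Finset.sum_eq_sum_iff_of_le fun p _ => hge p).1 hsum ⟨(x, y), hxy⟩ (Finset.mem_univ _)).symm

theorem mid_unique [Finite G] [Finite Ω] {e w w' : G} (he : e ∈ D) (hw : w ∈ D) (hw' : w' ∈ D)
    (hmove : w • pt e ≠ pt e) (h : w * e * w⁻¹ = w' * e * w'⁻¹) : w = w' := by
  set x := pt e with hx
  set y := w • x with hy
  have hxy : x ≠ y := hmove.symm
  choose m hm hme hmp using fun f : {f : G // f ∈ D ∧ pt f = y} =>
    P.exists_mid he f.2.1 (by rw [f.2.2]; exact hxy)
  let φ : {f : G // f ∈ D ∧ pt f = y} → {v : G // v ∈ D ∧ v • x = y} :=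
    fun f => ⟨m f, hm f, by rw [hmp f, f.2.2]⟩
  have hinj : Function.Injective φ := fun a b h => by
    simp only [φ, Subtype.mk.injEq] at h
    exact Subtype.ext (by rw [← hme a, h, hme b])
  have hsurj : Function.Surjective φ :=
    ((Nat.bijective_iff_injective_and_card φ).2 ⟨hinj, (P.card_swap hxy).symm⟩).2
  have key : ∀ v : {v : G // v ∈ D ∧ v • x = y}, ∀ hf : v.1 * e * v.1⁻¹ ∈ D ∧ pt (v.1 * e * v.1⁻¹) = y,
      v = φ ⟨_, hf⟩ := by
    intro v hf
    obtain ⟨f, rfl⟩ := hsurj v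
    exact congrArg φ (Subtype.ext (hme f).symm)
  have hyw' : w' • x = y := by rw [← P.pt_conj w' he, ← h, P.pt_conj w he]
  have h1 := key ⟨w, hw, rfl⟩ ⟨P.conj_mem w e he, by rw [P.pt_conj w he]⟩
  have h2 := key ⟨w', hw', hyw'⟩ ⟨P.conj_mem w' e he, by rw [P.pt_conj w' he, hyw']⟩
  exact congrArg Subtype.val (h1.trans ((congrArg φ (Subtype.ext h)).trans h2.symm))

/-- An involution moving the point of `e` commutes with the member exchanging `e` with its image;
their product centralises `e`. -/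
theorem exists_mid_commute [Finite G] [Finite Ω] {v : G} (hv : v * v = 1) {e : G} (he : e ∈ D)
    (hmove : v • pt e ≠ pt e) :
    ∃ m ∈ D, Commute m v ∧ m • pt e = v • pt e ∧ Commute (v * m) e := by
  have hpe : pt (v * e * v⁻¹) = v • pt e := P.pt_conj v he
  obtain ⟨m, hm, hme, hmp⟩ := P.exists_mid he (P.conj_mem v e he) (by rw [hpe]; exact hmove.symm)
  rw [hpe] at hmp
  have hvi : v⁻¹ = v := inv_eq_of_mul_eq_one_right hv
  refine ⟨m, hm, ?_, hmp, ?_⟩
  · have h1 : (v * m * v⁻¹) * e * (v * m * v⁻¹)⁻¹ = m * e * m⁻¹ := by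
      have hve : v⁻¹ * e * v = v * e * v⁻¹ := by rw [hvi]
      calc (v * m * v⁻¹) * e * (v * m * v⁻¹)⁻¹ = v * m * (v⁻¹ * e * v) * m⁻¹ * v⁻¹ := by group
        _ = v * (m * (m * e * m⁻¹) * m⁻¹) * v⁻¹ := by rw [hve, ← hme]; group
        _ = v * e * v⁻¹ := by
            rw [show m * (m * e * m⁻¹) * m⁻¹ = (m * m) * e * (m * m)⁻¹ by group,
              Involution.mul_self (P.inv m hm), one_mul, inv_one, mul_one]
        _ = m * e * m⁻¹ := hme.symm
    have h2 := P.mid_unique he hm (P.conj_mem v m hm) (by rw [hmp]; exact hmove) h1.symm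
    exact (mul_inv_eq_iff_eq_mul.1 h2.symm).symm
  · refine mul_inv_eq_iff_eq_mul.1 ?_
    calc v * m * e * (v * m)⁻¹ = v * (m * e * m⁻¹) * v⁻¹ := by group
      _ = (v * v) * e * (v * v)⁻¹ := by rw [hme]; group
      _ = e := by rw [hv, one_mul, inv_one, mul_one]

/-- Members centralising `c` are conjugate in its centraliser if two of them lie at different points. -/
theorem exists_conj_centralizing [Finite G] {c a b : G} (ha : a ∈ D) (hac : Commute a c) (hb : b ∈ D)
    (hbc : Commute b c) (hab : pt a ≠ pt b) {d : G} (hd : d ∈ D) (hdc : Commute d c) :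
    ∃ g, Commute g c ∧ g * a * g⁻¹ = d := by
  have key : ∀ {d d' : G}, d ∈ D → Commute d c → d' ∈ D → Commute d' c → pt d ≠ pt d' →
      ∃ g, Commute g c ∧ g * d * g⁻¹ = d' := by
    intro d d' hd hdc hd' hdc' hne
    obtain ⟨g, hg, hgd⟩ := exists_conj_of_odd (P.inv d hd) (P.inv d' hd') (P.odd_order d hd d' hd' hne)
    refine ⟨g, mem_centralizer_iff_commute.1 ((Subgroup.closure_le _).2 ?_ hg), hgd⟩
    rintro _ (rfl | rfl)
    · exact mem_centralizer_iff_commute.2 hdc
    · exact mem_centralizer_iff_commute.2 hdc'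
  by_cases hne : pt a = pt d
  · obtain ⟨g, hg, hgd⟩ := key ha hac hb hbc hab
    obtain ⟨g', hg', hgd'⟩ := key hb hbc hd hdc (hne ▸ hab.symm)
    exact ⟨g' * g, hg'.mul_left hg, by rw [← hgd', ← hgd]; group⟩
  · exact key ha hac hd hdc hne

variable [Finite G] [Finite Ω] [FaithfulSMul G Ω]

theorem exists_moved {c : G} (hc : c ≠ 1) : ∃ p : Ω, c • p ≠ p := by
  by_contra h
  push Not at h
  exact hc (eq_of_smul_eq_smul fun p : Ω => by rw [h p, one_smul])

/-- An involution with exactly one fixed point lies in `D`. -/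
theorem mem_of_unique {v : G} (hv : orderOf v = 2) {x y : Ω} (hxy : x ≠ y) (hx : v • x = x)
    (huniq : ∀ p, v • p = p → p = x) : v ∈ D := by
  by_contra hvD
  have hv2 := Involution.mul_self hv
  obtain ⟨e, he, hey⟩ := P.exists_at y
  obtain ⟨m, hm, hmv, -, hme⟩ := P.exists_mid_commute hv2 he
    (fun h => hxy (by rw [← hey]; exact (huniq _ h).symm))
  have hptm : pt m = x := huniq _ (P.commute_fix hm hmv.symm)
  set c := v * m with hc
  have hmc : Commute m c := hmv.mul_right (Commute.refl m)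
  have hcm : c * m = v := by rw [hc, mul_assoc, Involution.mul_self (P.inv m hm), mul_one]
  have hc1 : c ≠ 1 := fun h => hvD (by rw [h, one_mul] at hcm; exact hcm ▸ hm)
  have hc2 : c * c = 1 := by
    calc c * c = v * (m * v) * m := by rw [hc]; group
      _ = (v * v) * (m * m) := by rw [hmv.eq]; group
      _ = 1 := by rw [hv2, Involution.mul_self (P.inv m hm), one_mul]
  obtain ⟨p, hp⟩ := P.exists_moved hc1
  obtain ⟨f, hf, hfp⟩ := P.exists_at p
  obtain ⟨w, hw, hwc, hwp, -⟩ := P.exists_mid_commute hc2 hf (by rwa [hfp])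
  rw [hfp] at hwp
  obtain ⟨g, hg, hgw⟩ := P.exists_conj_centralizing hm hmc he hme.symm
    (by rw [hptm, hey]; exact hxy) hw hwc
  have hgv : g * v * g⁻¹ = c * w := by
    rw [← hcm, ← hgw, show g * (c * m) * g⁻¹ = (g * c) * m * g⁻¹ by group, hg.eq]; group
  have hfix : (g * v * g⁻¹) • p = p := by
    rw [hgv, mul_smul, hwp, ← mul_smul, hc2, one_smul]
  have hpx : g⁻¹ • p = x := huniq _ (by
    rw [mul_smul, mul_smul] at hfix
    rw [eq_inv_smul_iff, hfix])
  have hpw : pt w = p := by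
    rw [← hgw, P.pt_conj g hm, hptm, ← hpx, smul_inv_smul]
  exact hp (by rw [← hwp, ← hpw, P.smul_pt hw])

/-- The product of two commuting members lies in `D`. -/
theorem mul_mem {d e : G} (hd : d ∈ D) (he : e ∈ D) (hde : Commute d e) (hne : d ≠ e) {x₀ y₀ : Ω}
    (hxy₀ : x₀ ≠ y₀) : d * e ∈ D := by
  by_contra huD
  set u := d * e with hu
  set x := pt d with hx
  have hu2 : u * u = 1 := by
    calc u * u = d * (e * d) * e := by rw [hu]; group
      _ = (d * d) * (e * e) := by rw [← hde.eq]; group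
      _ = 1 := by rw [Involution.mul_self (P.inv d hd), Involution.mul_self (P.inv e he), one_mul]
  have hu1 : u ≠ 1 := fun h => hne (by
    rw [hu, mul_eq_one_iff_eq_inv, Involution.inv_eq (P.inv e he)] at h; exact h)
  have hux : u • x = x := by
    rw [hu, mul_smul, hx, P.pt_eq_of_commute hd he hde, P.smul_pt he,
      ← P.pt_eq_of_commute hd he hde, P.smul_pt hd]
  obtain ⟨y, hyx, huy⟩ : ∃ y, y ≠ x ∧ u • y = y := by
    by_contra hall
    push Not at hall
    obtain ⟨z, hz⟩ : ∃ z, x ≠ z := by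
      by_cases h1 : x = x₀
      · exact ⟨y₀, h1 ▸ hxy₀⟩
      · exact ⟨x₀, h1⟩
    exact huD (P.mem_of_unique (orderOf_of_sq hu2 hu1) hz hux fun p hp => by
      by_contra hp'
      exact hall p hp' hp)
  obtain ⟨p, hp⟩ := P.exists_moved hu1
  obtain ⟨f, hf, hfp⟩ := P.exists_at p
  obtain ⟨m, hm, hmu, -, hfc⟩ := P.exists_mid_commute hu2 hf (by rwa [hfp])
  have hptm : pt m = x := P.pt_of_commute_product hd he hde hne hm hmu
  set c := u * m with hc
  have hmc : Commute m c := hmu.mul_right (Commute.refl m)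
  have hcm : c * m = u := by rw [hc, mul_assoc, Involution.mul_self (P.inv m hm), mul_one]
  have hc2 : c * c = 1 := by
    calc c * c = u * (m * u) * m := by rw [hc]; group
      _ = (u * u) * (m * m) := by rw [hmu.eq]; group
      _ = 1 := by rw [hu2, Involution.mul_self (P.inv m hm), one_mul]
  have hcy : c • y ≠ y := fun h => hyx (by
    rw [← hptm]
    refine (P.fixed_iff m hm y).1 (MulAction.injective u ?_)
    show u • m • y = u • y
    rw [← mul_smul, ← hc, h, huy])
  obtain ⟨e₁, he₁, he₁y⟩ := P.exists_at y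
  obtain ⟨m', hm', hm'c, hm'y, hec⟩ := P.exists_mid_commute hc2 he₁ (by rwa [he₁y])
  rw [he₁y] at hm'y
  have hpx : p ≠ x := fun h => hp (h ▸ hux)
  obtain ⟨g, hg, hgm⟩ := P.exists_conj_centralizing hm hmc hf hfc.symm
    (by rw [hptm, hfp]; exact hpx.symm) hm' hm'c
  have hgu : g * u * g⁻¹ = c * m' := by
    rw [← hcm, ← hgm, show g * (c * m) * g⁻¹ = (g * c) * m * g⁻¹ by group, hg.eq]; group
  rw [← hgu] at hec
  have hec' : Commute (g⁻¹ * e₁ * g⁻¹⁻¹) u := by
    have h := (hec.map (MulAut.conj g⁻¹).toMonoidHom).symm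
    simpa [mul_assoc] using h
  have h1 : g⁻¹ • y = x := by
    rw [← he₁y, ← P.pt_conj g⁻¹ he₁]
    exact P.pt_of_commute_product hd he hde hne (P.conj_mem g⁻¹ e₁ he₁) hec'
  have hym : pt m' = y := by rw [← hgm, P.pt_conj g hm, hptm, ← h1, smul_inv_smul]
  exact hcy (by rw [← hm'y, ← hym, P.smul_pt hm'])

/-- There is an odd number of members at each point. -/
theorem odd_card {x₀ y₀ : Ω} (hxy₀ : x₀ ≠ y₀) (p : Ω) :
    Odd (Nat.card {d : G // d ∈ D ∧ pt d = p}) := by
  classical
  obtain ⟨q, hqp⟩ : ∃ q, q ≠ p := by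
    by_cases h1 : x₀ = p
    · exact ⟨y₀, fun h => hxy₀ (h1.trans h.symm)⟩
    · exact ⟨x₀, h1⟩
  obtain ⟨e, he, heq⟩ := P.exists_at q
  obtain ⟨f, hf, hfp⟩ := P.exists_at p
  obtain ⟨w, hw, -, hwq⟩ := P.exists_mid he hf (by rwa [heq, hfp])
  rw [heq, hfp] at hwq
  have hwi : w⁻¹ = w := Involution.inv_eq (P.inv w hw)
  have hwp : w • p = q := by rw [← hwq, P.smul_smul_self hw]
  rw [← P.card_swap hqp]
  set S := {v : G // v ∈ D ∧ v • q = p}
  haveI := Fintype.ofFinite S
  haveI : Fact (Nat.Prime 2) := ⟨Nat.prime_two⟩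
  have hmaps : ∀ v : S, w * v.1 * w⁻¹ ∈ D ∧ (w * v.1 * w⁻¹) • q = p := fun v => by
    refine ⟨P.conj_mem w _ v.2.1, ?_⟩
    have hvp : v.1 • p = q := (congrArg (v.1 • ·) v.2.2).symm.trans (P.smul_smul_self v.2.1 q)
    rw [mul_smul, mul_smul, hwi, hwq, hvp, hwq]
  have hinv : ∀ v : G, w * (w * v * w⁻¹) * w⁻¹ = v := fun v => by
    rw [show w * (w * v * w⁻¹) * w⁻¹ = (w * w) * v * (w * w)⁻¹ by group,
      Involution.mul_self (P.inv w hw), one_mul, inv_one, mul_one]
  let σ : Equiv.Perm S :=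
    ⟨fun v => ⟨_, hmaps v⟩, fun v => ⟨_, hmaps v⟩, fun v => Subtype.ext (hinv v.1),
      fun v => Subtype.ext (hinv v.1)⟩
  have h := Equiv.Perm.card_compl_support_modEq (p := 2) (n := 1) (σ := σ) (by
    ext v
    rw [pow_one, sq, Equiv.Perm.mul_apply, Equiv.Perm.one_apply]
    exact congrArg Subtype.val (σ.left_inv v))
  have hset : σ.supportᶜ = {(⟨w, hw, hwq⟩ : S)} := by
    ext v
    rw [Finset.mem_compl, Equiv.Perm.notMem_support, Finset.mem_singleton]
    constructor
    · intro hv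
      have hc : Commute w v.1 := mul_inv_eq_iff_eq_mul.1 (congrArg Subtype.val hv)
      refine Subtype.ext (by_contra fun hne => hqp ?_)
      have hD := P.mul_mem hw v.2.1 hc (Ne.symm hne) hxy₀
      have h1 : (w * v.1) • q = q := by rw [mul_smul, v.2.2, hwp]
      have hvp : v.1 • p = q := (congrArg (v.1 • ·) v.2.2).symm.trans (P.smul_smul_self v.2.1 q)
      have h2 : (w * v.1) • p = p := by rw [mul_smul, hvp, hwq]
      exact ((P.fixed_iff _ hD q).1 h1).trans ((P.fixed_iff _ hD p).1 h2).symm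
    · rintro rfl
      exact Subtype.ext (mul_inv_cancel_right w w)
  rw [hset, Finset.card_singleton, ← Nat.card_eq_fintype_card] at h
  rw [Nat.odd_iff]
  unfold Nat.ModEq at h
  omega

theorem pointClass {x₀ y₀ : Ω} (hxy₀ : x₀ ≠ y₀) : Aschbacher.PointClass G Ω D pt :=
  ⟨P.inv, P.conj_mem, P.fixed_iff, fun _ hd _ he hde hne _ hc => P.product hd he hde hne hc,
    P.odd_card hxy₀⟩

end OddClass

end Cfsg.Agent.RootConnected
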