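/-
The commuting graph of a set of root involutions with a pair of product order four is connected,
given Aschbacher's criterion and `CoreTwo` (owner: helper90).

Main results (namespace `Cfsg.Agent.RootConnected`):
* `oddClass` : a disconnected commuting graph gives an `OddClass` on the cosets of a block stabiliser
* `OddClass.range_image` : passing to the faithful action
* `OddClass.isStronglyEmbedded` : in a faithful action the point stabiliser is strongly embedded
* `OddClass.no_four` : hence no two members have product of order four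
* `commConnected_of_four` : so the commuting graph is connected
-/
import Cfsg.Agent.Lib.RootConnected.Points
import Cfsg.Agent.Lib.Aschbacher.Criterion
import Cfsg.Agent.Lib.Bender.CoreTwo
import Cfsg.Agent.Lib.RankOne.RootInv

set_option autoImplicit false
set_option linter.unusedSectionVars false

namespace Cfsg.Agent.RootConnected

open Cfsg Involution

universe u

/-- Bender's theorem on the involutions of a strongly embedded subgroup, as a hypothesis. -/
def CoreTwoAll : Prop :=
  ∀ (G : Type u) [Group G] [Finite G] (H : Subgroup G), IsStronglyEmbedded H → Bender.CoreTwo H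

variable {G : Type u} [Group G] {D : Set G}

theorem reach_symm {a b : G} (h : Relation.ReflTransGen (CommAdj D) a b) :
    Relation.ReflTransGen (CommAdj D) b a := by
  induction h with
  | refl => exact .refl
  | tail _ e ih => exact .head ⟨e.2.1, e.1, e.2.2.1.symm, e.2.2.2.symm⟩ ih

theorem reach_of_commute {a b : G} (ha : a ∈ D) (hb : b ∈ D) (h : a * b = b * a) :
    Relation.ReflTransGen (CommAdj D) a b := by
  by_cases he : a = b
  · exact he ▸ .refl
  · exact .single ⟨ha, hb, he, h⟩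

theorem reach_mem {a b : G} (ha : a ∈ D) (h : Relation.ReflTransGen (CommAdj D) a b) : b ∈ D := by
  induction h with
  | refl => exact ha
  | tail _ e _ => exact e.2.1

section set

variable (hD : IsRootInvolutionSet D)
include hD

theorem reach_conj (g : G) {a b : G} (h : Relation.ReflTransGen (CommAdj D) a b) :
    Relation.ReflTransGen (CommAdj D) (g * a * g⁻¹) (g * b * g⁻¹) := by
  induction h with
  | refl => exact .refl
  | tail _ e ih =>
    refine ih.tail ⟨hD.conj_mem _ e.1 g, hD.conj_mem _ e.2.1 g,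
      fun h => e.2.2.1 (mul_left_cancel (mul_right_cancel h)), ?_⟩
    have h := (show Commute _ _ from e.2.2.2).map (MulAut.conj g).toMonoidHom
    exact h.eq

theorem odd_of_not_reach {a b : G} (ha : a ∈ D) (hb : b ∈ D)
    (h : ¬ Relation.ReflTransGen (CommAdj D) a b) : Odd (orderOf (a * b)) := by
  rcases RootInv.cases' hD ha hb with h' | h' | h'
  · exact absurd (reach_of_commute ha hb h') h
  · exact h'.2
  · have hz := RootInv.four_mem hD ha hb h'
    exact absurd ((reach_of_commute ha hz (RootInv.four_commute_left hD ha hb h').eq.symm).trans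
      (reach_of_commute hz hb (RootInv.four_commute_right hD ha hb h').eq)) h

theorem isConj_of_not_reach {a b : G} (ha : a ∈ D) (hb : b ∈ D)
    (h : ¬ Relation.ReflTransGen (CommAdj D) a b) : IsConj a b :=
  isConj_of_odd (hD.orderOf_eq a ha) (hD.orderOf_eq b hb) (odd_of_not_reach hD ha hb h)

/-- With two components there is one class only. -/
theorem isConj_of_disconnected {z b : G} (hz : z ∈ D) (hb : b ∈ D)
    (h : ¬ Relation.ReflTransGen (CommAdj D) z b) {d : G} (hd : d ∈ D) : IsConj z d := by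
  by_cases hd' : Relation.ReflTransGen (CommAdj D) z d
  · exact (isConj_of_not_reach hD hz hb h).trans
      (isConj_of_not_reach hD hd hb fun e => h (hd'.trans e)).symm
  · exact isConj_of_not_reach hD hz hd hd'

/-- The stabiliser of the component of `z`. -/
def blockStab (z : G) : Subgroup G where
  carrier := {g | Relation.ReflTransGen (CommAdj D) z (g * z * g⁻¹)}
  one_mem' := by
    show Relation.ReflTransGen (CommAdj D) z (1 * z * 1⁻¹)
    rw [one_mul, inv_one, mul_one]
  mul_mem' := fun {a b} (ha : Relation.ReflTransGen _ _ _) (hb : Relation.ReflTransGen _ _ _) => by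
    have h := reach_conj hD a hb
    show Relation.ReflTransGen (CommAdj D) z (a * b * z * (a * b)⁻¹)
    rw [show a * b * z * (a * b)⁻¹ = a * (b * z * b⁻¹) * a⁻¹ by group]
    exact ha.trans h
  inv_mem' := fun {a} (ha : Relation.ReflTransGen _ _ _) => by
    have h := reach_symm (reach_conj hD a⁻¹ ha)
    show Relation.ReflTransGen (CommAdj D) z (a⁻¹ * z * a⁻¹⁻¹)
    rwa [show a⁻¹ * (a * z * a⁻¹) * a⁻¹⁻¹ = z by group] at h

theorem mem_blockStab {z d : G} (hz : z ∈ D) (hd : d ∈ D)
    (h : Relation.ReflTransGen (CommAdj D) z d) : d ∈ blockStab hD z := by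
  have h1 := reach_conj hD d h
  rw [mul_inv_cancel_right] at h1
  exact h.trans (reach_symm h1)

theorem conj_mem_blockStab_iff {z : G} (hz : z ∈ D) (g : G) :
    g * z * g⁻¹ ∈ blockStab hD z ↔ g ∈ blockStab hD z := by
  refine ⟨fun hd => ?_, fun h => mem_blockStab hD hz (hD.conj_mem z hz g) h⟩
  show Relation.ReflTransGen (CommAdj D) z (g * z * g⁻¹)
  by_contra hnot
  have hdD := hD.conj_mem z hz g
  obtain ⟨k, hk, hkd⟩ := exists_conj_of_odd (hD.orderOf_eq z hz) (hD.orderOf_eq _ hdD)
    (odd_of_not_reach hD hz hdD hnot)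
  have hkH : k ∈ blockStab hD z := (Subgroup.closure_le _).2 (by
    rintro _ (rfl | rfl)
    · exact mem_blockStab hD hz hz .refl
    · exact hd) hk
  exact hnot (hkd ▸ (hkH : Relation.ReflTransGen (CommAdj D) z (k * z * k⁻¹)))

theorem oddClass {z b : G} (hz : z ∈ D) (hb : b ∈ D) (h : ¬ Relation.ReflTransGen (CommAdj D) z b) :
    OddClass G (G ⧸ blockStab hD z) D (Aschbacher.pointOf (blockStab hD z) z) := by
  have hiff := conj_mem_blockStab_iff hD hz
  have hpt := Aschbacher.pointOf_eq hiff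
  have hcl : ∀ d ∈ D, ∃ g, g * z * g⁻¹ = d := fun d hd =>
    isConj_iff.1 (isConj_of_disconnected hD hz hb h hd)
  refine ⟨hD.orderOf_eq, fun g d hd => hD.conj_mem d hd g, ?_, ?_, fun p => ?_⟩
  · intro d hd p
    obtain ⟨g, rfl⟩ := hcl d hd
    induction p using QuotientGroup.induction_on with | _ a =>
    rw [hpt, smul_mk_eq_iff, QuotientGroup.eq,
      show a⁻¹ * (g * z * g⁻¹) * a = (a⁻¹ * g) * z * (a⁻¹ * g)⁻¹ by group, hiff]
  · intro d hd e he hne
    obtain ⟨a, rfl⟩ := hcl d hd
    obtain ⟨c, rfl⟩ := hcl e he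
    refine odd_of_not_reach hD hd he fun hr => hne ?_
    rw [hpt, hpt, QuotientGroup.eq]
    have h1 := reach_conj hD a⁻¹ hr
    show Relation.ReflTransGen (CommAdj D) z _
    rwa [show a⁻¹ * (a * z * a⁻¹) * a⁻¹⁻¹ = z by group,
      show a⁻¹ * (c * z * c⁻¹) * a⁻¹⁻¹ = (a⁻¹ * c) * z * (a⁻¹ * c)⁻¹ by group] at h1
  · induction p using QuotientGroup.induction_on with | _ a =>
    exact ⟨a * z * a⁻¹, hD.conj_mem z hz a, hpt a⟩

end set

section criterion

variable {Ω : Type u} [MulAction G Ω] {pt : G → Ω} [Finite G] [Finite Ω]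

theorem OddClass.exists_smul (P : OddClass G Ω D pt) {x₀ y₀ : Ω} (hxy₀ : x₀ ≠ y₀) {d e : G}
    (hd : d ∈ D) (he : e ∈ D) : ∃ g : G, g * d * g⁻¹ = e := by
  have key : ∀ {a b : G}, a ∈ D → b ∈ D → pt a ≠ pt b → IsConj a b := fun {a b} ha hb h =>
    isConj_of_odd (P.inv a ha) (P.inv b hb) (P.odd_order a ha b hb h)
  refine isConj_iff.1 ?_
  by_cases h : pt d = pt e
  · obtain ⟨q, hq⟩ : ∃ q, pt d ≠ q := by
      by_cases h1 : pt d = x₀
      · exact ⟨y₀, h1 ▸ hxy₀⟩
      · exact ⟨x₀, h1⟩
    obtain ⟨f, hf, hfq⟩ := P.exists_at q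
    exact (key hd hf (by rwa [hfq])).trans (key he hf (by rwa [hfq, ← h])).symm
  · exact key hd he h

/-- In a faithful action the stabiliser of a point is strongly embedded. -/
theorem OddClass.isStronglyEmbedded [FaithfulSMul G Ω] (hA : Aschbacher.CoreFreeCriterion.{u})
    (P : OddClass G Ω D pt) (hgen : Subgroup.closure D = ⊤) {x₀ y₀ : Ω} (hxy₀ : x₀ ≠ y₀) :
    ∃ o : Ω, IsStronglyEmbedded (MulAction.stabilizer G o) := by
  classical
  haveI : Fact (Nat.Prime 2) := ⟨Nat.prime_two⟩
  have PC := P.pointClass hxy₀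
  obtain ⟨d₀, hd₀, -⟩ := P.exists_at x₀
  obtain ⟨S⟩ : Nonempty (Sylow 2 G) := inferInstance
  obtain ⟨o, ho⟩ := S.isPGroup'.nonempty_fixed_point_of_prime_not_dvd_card Ω
    (Nat.two_dvd_ne_zero.2 (Nat.odd_iff.1 (PC.odd_card_points hd₀)))
  have hoS : ∀ s ∈ S, s • o = o := fun s hs => ho ⟨s, hs⟩
  let F := {d : G // d ∈ D ∧ pt d = o}
  letI : MulAction (S : Subgroup G) F :=
    { smul := fun s d => ⟨(s : G) * d.1 * (s : G)⁻¹, P.conj_mem _ _ d.2.1, by
        rw [P.pt_conj _ d.2.1, d.2.2]; exact hoS _ s.2⟩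
      one_smul := fun d => Subtype.ext (by
        show (1 : G) * d.1 * (1 : G)⁻¹ = d.1
        rw [one_mul, inv_one, mul_one])
      mul_smul := fun s t d => Subtype.ext (by
        show ((s * t : (S : Subgroup G)) : G) * d.1 * ((s * t : (S : Subgroup G)) : G)⁻¹ =
          (s : G) * ((t : G) * d.1 * (t : G)⁻¹) * (s : G)⁻¹
        rw [Subgroup.coe_mul]; group) }
  obtain ⟨⟨d, hd, hdo⟩, hfix⟩ := S.isPGroup'.nonempty_fixed_point_of_prime_not_dvd_card F
    (Nat.two_dvd_ne_zero.2 (Nat.odd_iff.1 (P.odd_card hxy₀ o)))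
  have hSd : ∀ s ∈ S, Commute s d := fun s hs =>
    mul_inv_eq_iff_eq_mul.1 (congrArg Subtype.val (hfix ⟨s, hs⟩))
  have hdS : d ∈ S := by
    have hp : IsPGroup 2 (Subgroup.zpowers d) := IsPGroup.of_card (n := 1)
      (by rw [Nat.card_zpowers, P.inv d hd, pow_one])
    have hle : (S : Subgroup G) ≤ Subgroup.normalizer (Subgroup.zpowers d : Set G) := by
      refine le_trans ?_ (Subgroup.centralizer_le_normalizer _)
      intro s hs
      rintro x ⟨k, rfl⟩
      exact ((hSd s hs).zpow_right k).symm.eq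
    have h := S.is_maximal' (S.isPGroup'.to_sup_of_normal_right' hp hle) le_sup_left
    exact h.le (Subgroup.mem_sup_right (Subgroup.mem_zpowers d))
  set H := MulAction.stabilizer G o
  have hiff : ∀ g : G, g * d * g⁻¹ ∈ H ↔ g ∈ H := fun g => by
    rw [MulAction.mem_stabilizer_iff, MulAction.mem_stabilizer_iff, P.fixed_iff _ (P.conj_mem g d hd),
      P.pt_conj g hd, hdo, eq_comm]
  have htrans : ∀ p : Ω, ∃ g : G, g • o = p := fun p => by
    obtain ⟨e, he, hep⟩ := P.exists_at p
    obtain ⟨g, hg⟩ := P.exists_smul hxy₀ hd he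
    exact ⟨g, by rw [← hdo, ← P.pt_conj g hd, hg, hep]⟩
  have hH : H ≠ ⊤ := fun h => hxy₀ (by
    obtain ⟨g, hg⟩ := htrans x₀
    obtain ⟨g', hg'⟩ := htrans y₀
    have hf : ∀ k : G, k • o = o := fun k => MulAction.mem_stabilizer_iff.1 (show k ∈ H from h.symm ▸ Subgroup.mem_top k)
    rw [← hg, ← hg', hf, hf])
  have hcore : H.normalCore = ⊥ := (Subgroup.eq_bot_iff_forall _).2 fun n hn =>
    eq_of_smul_eq_smul fun p : Ω => by
      obtain ⟨g, rfl⟩ := htrans p
      have h := MulAction.mem_stabilizer_iff.1 (H.normalCore_le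
        ((inferInstance : H.normalCore.Normal).conj_mem n hn g⁻¹))
      rw [inv_inv, mul_smul, mul_smul, inv_smul_eq_iff] at h
      rw [one_smul]
      exact h
  have htop : Subgroup.normalClosure ({d} : Set G) = ⊤ := by
    rw [eq_top_iff, ← hgen, Subgroup.closure_le]
    intro e he
    obtain ⟨g, rfl⟩ := P.exists_smul hxy₀ hd he
    exact Subgroup.normalClosure_normal.conj_mem d (Subgroup.subset_normalClosure (Set.mem_singleton d)) g
  have h := hA G S d H (P.inv d hd) hdS hSd hH hcore hiff (fun g hc hne c hcu => by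
    rw [MulAction.mem_stabilizer_iff, ← hdo]
    exact P.product hd (P.conj_mem g d hd) hc (Ne.symm hne) (mem_centralizer_iff_commute.1 hcu))
  rw [htop] at h
  refine ⟨o, isStronglyEmbedded_iff_forall.2 ⟨hH, ?_, fun g t ht htH hg => ?_⟩⟩
  · rw [even_iff_two_dvd, ← P.inv d hd]
    exact Subgroup.orderOf_dvd_natCard H (by simpa using (hiff 1).2 H.one_mem)
  · exact Subgroup.mem_subgroupOf.1 (mem_of_conj_mem h (g := ⟨g, Subgroup.mem_top g⟩)
      (t := ⟨t, Subgroup.mem_top t⟩) (by rw [← Subgroup.orderOf_coe]; exact ht)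
      (Subgroup.mem_subgroupOf.2 htH) (Subgroup.mem_subgroupOf.2 hg))

/-- The image of an `OddClass` in the permutation group it induces. -/
theorem OddClass.range_image (P : OddClass G Ω D pt) {x₀ y₀ : Ω} (hxy₀ : x₀ ≠ y₀) :
    ∃ pt' : (MulAction.toPermHom G Ω).range → Ω,
      OddClass (MulAction.toPermHom G Ω).range Ω ((MulAction.toPermHom G Ω).rangeRestrict '' D) pt' ∧
      ∀ d ∈ D, pt' ((MulAction.toPermHom G Ω).rangeRestrict d) = pt d := by
  classical
  set f : G →* (MulAction.toPermHom G Ω).range := (MulAction.toPermHom G Ω).rangeRestrict with hf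
  have hfs : Function.Surjective f := MonoidHom.rangeRestrict_surjective _
  have hsm : ∀ (g : G) (p : Ω), f g • p = g • p := fun g p => rfl
  set pt' : (MulAction.toPermHom G Ω).range → Ω := fun σ => pt (Function.invFunOn f D σ) with hpt'
  have hp : ∀ d ∈ D, pt' (f d) = pt d := by
    intro d hd
    have hmem : ∃ e ∈ D, f e = f d := ⟨d, hd, rfl⟩
    refine (P.fixed_iff d hd _).1 ?_
    rw [← hsm d, ← congrArg (fun σ => σ • pt' (f d)) (Function.invFunOn_eq hmem)]
    exact P.smul_pt (Function.invFunOn_mem hmem)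
  refine ⟨pt', ?_, hp⟩
  refine ⟨?_, ?_, ?_, ?_, fun p => ?_⟩
  · rintro _ ⟨d, hd, rfl⟩
    refine orderOf_of_sq (by rw [← map_mul, Involution.mul_self (P.inv d hd), map_one]) fun h => ?_
    obtain ⟨q, hq⟩ : ∃ q, q ≠ pt d := by
      by_cases h1 : x₀ = pt d
      · exact ⟨y₀, fun h2 => hxy₀ (h1.trans h2.symm)⟩
      · exact ⟨x₀, h1⟩
    exact hq ((P.fixed_iff d hd q).1 (by rw [← hsm, h, one_smul]))
  · rintro g _ ⟨d, hd, rfl⟩
    obtain ⟨g, rfl⟩ := hfs g
    exact ⟨_, P.conj_mem g d hd, by rw [map_mul, map_mul, map_inv]⟩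
  · rintro _ ⟨d, hd, rfl⟩ p
    rw [hsm, hp d hd]
    exact P.fixed_iff d hd p
  · rintro _ ⟨d, hd, rfl⟩ _ ⟨e, he, rfl⟩ hne
    rw [hp d hd, hp e he] at hne
    rw [← map_mul]
    exact (P.odd_order d hd e he hne).of_dvd_nat (orderOf_map_dvd f _)
  · obtain ⟨d, hd, hdp⟩ := P.exists_at p
    exact ⟨f d, ⟨d, hd, rfl⟩, by rw [hp d hd, hdp]⟩

/-- No two members have product of order four with square in the class. -/
theorem OddClass.no_four_of_faithful [FaithfulSMul G Ω] (hA : Aschbacher.CoreFreeCriterion.{u})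
    (hB : CoreTwoAll.{u}) (P : OddClass G Ω D pt) (hgen : Subgroup.closure D = ⊤) {x₀ y₀ : Ω}
    (hxy₀ : x₀ ≠ y₀) {a b : G} (ha : a ∈ D) (hb : b ∈ D) (hab : pt a = pt b)
    (hz : a * b * (a * b) ∈ D) : False := by
  haveI : Fact (Nat.Prime 2) := ⟨Nat.prime_two⟩
  obtain ⟨o, hH⟩ := P.isStronglyEmbedded hA hgen hxy₀
  obtain ⟨e, he, heo⟩ := P.exists_at o
  obtain ⟨g, hg⟩ := P.exists_smul hxy₀ ha he
  have hgo : g • pt a = o := by rw [← P.pt_conj g ha, hg, heo]
  have hmem : ∀ {c : G}, c ∈ D → pt c = pt a → g * c * g⁻¹ ∈ MulAction.stabilizer G o := fun {c} hc hca => by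
    rw [MulAction.mem_stabilizer_iff, P.fixed_iff _ (P.conj_mem g c hc), P.pt_conj g hc, hca, hgo]
  have h := hB G _ hH ⟨_, hmem ha rfl⟩ ⟨_, hmem hb hab.symm⟩
    ((Involution.orderOf_conj g a).trans (P.inv a ha)) ((Involution.orderOf_conj g b).trans (P.inv b hb))
  have h1 := Subgroup.orderOf_dvd_natCard _ h
  rw [← Subgroup.orderOf_coe] at h1
  have e1 : g * a * g⁻¹ * (g * b * g⁻¹) * (g * a * g⁻¹)⁻¹ * (g * b * g⁻¹)⁻¹ =
      g * (a * b * (a * b)) * g⁻¹ := by
    rw [mul_inv_rev, mul_inv_rev, mul_inv_rev, mul_inv_rev, inv_inv, Involution.inv_eq (P.inv a ha),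
      Involution.inv_eq (P.inv b hb)]
    group
  have h2 : orderOf (g * a * g⁻¹ * (g * b * g⁻¹) * (g * a * g⁻¹)⁻¹ * (g * b * g⁻¹)⁻¹) = 2 := by
    rw [e1, Involution.orderOf_conj]; exact P.inv _ hz
  simp only [Subgroup.coe_mul, InvMemClass.coe_inv] at h1
  rw [h2] at h1
  exact Nat.prime_two.coprime_iff_not_dvd.1
    (Cores.coprime_card_pPrimeCore (G := MulAction.stabilizer G o) 2).symm h1

theorem OddClass.no_four (hA : Aschbacher.CoreFreeCriterion.{u}) (hB : CoreTwoAll.{u})
    (P : OddClass G Ω D pt) (hgen : Subgroup.closure D = ⊤) {x₀ y₀ : Ω} (hxy₀ : x₀ ≠ y₀) {a b : G}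
    (ha : a ∈ D) (hb : b ∈ D) (hab : pt a = pt b) (hz : a * b * (a * b) ∈ D) : False := by
  set f : G →* (MulAction.toPermHom G Ω).range := (MulAction.toPermHom G Ω).rangeRestrict with hf
  have hfs : Function.Surjective f := MonoidHom.rangeRestrict_surjective _
  obtain ⟨pt', P', hp⟩ := P.range_image hxy₀
  have hgen' : Subgroup.closure (f '' D) = ⊤ := by
    rw [← MonoidHom.map_closure, hgen, Subgroup.map_top_of_surjective f hfs]
  exact P'.no_four_of_faithful hA hB hgen' hxy₀ ⟨a, ha, rfl⟩ ⟨b, hb, rfl⟩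
    (by rw [hp a ha, hp b hb, hab]) ⟨_, hz, by rw [map_mul, map_mul]⟩

/-- **Connectedness.** A set of root involutions with a pair of product order four has a connected
commuting graph. -/
theorem commConnected_of_four (hA : Aschbacher.CoreFreeCriterion.{u}) (hB : CoreTwoAll.{u})
    (hD : IsRootInvolutionSet D) (hfour : ∃ a ∈ D, ∃ b ∈ D, orderOf (a * b) = 4) :
    IsConnectedSet (CommAdj D) D := by
  intro z hz b₀ hb₀
  by_contra hnot
  obtain ⟨a, ha, b, hb, hab⟩ := hfour
  have P := oddClass hD hz hb₀ hnot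
  have hne : Aschbacher.pointOf (blockStab hD z) z z ≠ Aschbacher.pointOf (blockStab hD z) z b₀ := by
    intro e
    obtain ⟨g, hg⟩ := isConj_iff.1 (isConj_of_disconnected hD hz hb₀ hnot hb₀)
    have hiff := conj_mem_blockStab_iff hD hz
    have e1 : Aschbacher.pointOf (blockStab hD z) z z = ((1 : G) : G ⧸ blockStab hD z) := by
      simpa using Aschbacher.pointOf_eq hiff 1
    rw [e1, ← hg, Aschbacher.pointOf_eq hiff, QuotientGroup.eq, inv_one, one_mul] at e
    exact hnot (hg ▸ (e : Relation.ReflTransGen (CommAdj D) z (g * z * g⁻¹)))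
  have hz' := RootInv.four_mem hD ha hb hab
  exact P.no_four hA hB hD.generates hne ha hb
    ((P.pt_eq_of_commute hz' ha (RootInv.four_commute_left hD ha hb hab)).symm.trans
      (P.pt_eq_of_commute hz' hb (RootInv.four_commute_right hD ha hb hab))) hz'

end criterion

end Cfsg.Agent.RootConnected
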