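/-
`CoreTwoAll` from Bender's theorem (owner: helper1).

* `coreTwoAll`
-/
import Cfsg.Agent.Lib.RootConnected.Connected
import Cfsg.Agent.Lib.Bender.FreeCase

set_option autoImplicit false

namespace Cfsg.Agent.RootConnected

universe u

/-- The involutions of a strongly embedded subgroup commute modulo its odd core, in every group. -/
theorem coreTwoAll : CoreTwoAll.{u} := fun _ _ _ _ hH => Bender.coreTwo hH

end Cfsg.Agent.RootConnected
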