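/-
A set of root involutions with a line and a disconnected commuting graph gives a group of Lie type of
rank one (statement S5044, given Aschbacher's criterion; owner: helper90).

Main results (namespace `Cfsg.Agent.RootConnected`):
* `OddClass.kernel_eq_twoZCore` : the kernel of the action is `O_{2,Z}`
* `dichotomy_of_criterion` : the statement of S5044
-/
import Cfsg.Agent.Lib.RootConnected.Connected
import Cfsg.Agent.Lib.Bender.RankOneHalf
import Cfsg.Agent.Lib.Bender.Consumers

set_option autoImplicit false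
set_option linter.style.haveILetI false
set_option linter.unusedSectionVars false

namespace Cfsg.Agent.RootConnected

open Cfsg Involution

universe u

variable {G : Type u} [Group G] [Finite G] {D : Set G}

section kernel

variable {Ω : Type u} [MulAction G Ω] [Finite Ω] {pt : G → Ω}

/-- A member has no two images under the kernel outside a `2`-subgroup. -/
theorem conj_mul_mem_pCore (P : OddClass G Ω D pt) (hD : IsRootInvolutionSet D) {x₀ y₀ : Ω}
    (hxy₀ : x₀ ≠ y₀) {a b : G} (ha : a ∈ D) (hb : b ∈ D) (hab : a * b ∈ D) (hcom : Commute a b)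
    {d k : G} (hd : d ∈ D) (hk : k ∈ (MulAction.toPermHom G Ω).ker) :
    k * d * k⁻¹ * d ∈ pCore 2 G := by
  set f : G →* (MulAction.toPermHom G Ω).range := (MulAction.toPermHom G Ω).rangeRestrict with hf
  set K := (MulAction.toPermHom G Ω).ker with hK
  haveI : K.Normal := MonoidHom.normal_ker _
  have hfK : ∀ j ∈ K, f j = 1 := fun j hj => Subtype.ext hj
  obtain ⟨pt', P', -⟩ := P.range_image hxy₀
  have hord : ∀ e ∈ D, orderOf (f e) = 2 := fun e he => P'.inv _ ⟨e, he, rfl⟩
  have key : ∀ {p e : G}, p ∈ D → e ∈ D → Commute p e → f p ≠ f e → ∀ j ∈ K,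
      Commute (j * p * j⁻¹) e := by
    intro p e hp he hpe hne j hj
    have hp' := hD.conj_mem p hp j
    have himg : f (j * p * j⁻¹) = f p := by rw [map_mul, map_mul, map_inv, hfK j hj]; simp
    have hsq : f (j * p * j⁻¹ * e) * f (j * p * j⁻¹ * e) = 1 := by
      rw [map_mul, himg, ← map_mul, ← map_mul, show p * e * (p * e) = p * (e * p) * e by group,
        hpe.symm.eq, show p * (p * e) * e = p * p * (e * e) by group, RootInv.mul_self hD hp,
        RootInv.mul_self hD he, mul_one, map_one]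
    rcases RootInv.cases' hD hp' he with h | h | h
    · exact h
    · exfalso
      have h1 : Odd (orderOf (f (j * p * j⁻¹ * e))) := h.2.of_dvd_nat (orderOf_map_dvd f _)
      have h2 : orderOf (f (j * p * j⁻¹ * e)) ∣ 2 := orderOf_dvd_of_pow_eq_one (by rw [sq]; exact hsq)
      have h3 : f (j * p * j⁻¹ * e) = 1 := orderOf_eq_one_iff.1 (by
        rcases (Nat.dvd_prime Nat.prime_two).1 h2 with h2 | h2
        · exact h2
        · rw [h2] at h1; exact absurd h1 (by decide))
      rw [map_mul, himg, mul_eq_one_iff_eq_inv, ← map_inv, RootInv.inv_eq hD he] at h3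
      exact hne h3
    · exfalso
      refine ne_one (hord _ (RootInv.four_mem hD hp' he h)) ?_
      rw [map_mul]
      exact hsq
  obtain ⟨g, hg⟩ := P.exists_smul hxy₀ hab hd
  set a' := g * a * g⁻¹ with ha'
  set b' := g * b * g⁻¹ with hb'
  have haD : a' ∈ D := hD.conj_mem a ha g
  have hbD : b' ∈ D := hD.conj_mem b hb g
  have hd' : d = a' * b' := by rw [← hg, ha', hb']; group
  have hcom' : Commute a' b' := hcom.map (MulAut.conj g).toMonoidHom
  have hda : Commute d a' := hd' ▸ ((Commute.refl a').mul_left hcom'.symm)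
  have hdb : Commute d b' := hd' ▸ (hcom'.mul_left (Commute.refl b'))
  have hna : f d ≠ f a' := fun e => ne_one (hord b' hbD) (by
    rw [hd', map_mul] at e; exact mul_left_cancel (e.trans (mul_one _).symm))
  have hnb : f d ≠ f b' := fun e => ne_one (hord a' haD) (by
    rw [hd', map_mul] at e; exact mul_right_cancel (e.trans (one_mul _).symm))
  have hall : ∀ j ∈ K, Commute (j * d * j⁻¹) d := fun j hj => by
    have h := (key hd haD hda hna j hj).mul_right (key hd hbD hdb hnb j hj)
    rwa [← hd'] at h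
  have hpair : ∀ i ∈ K, ∀ j ∈ K, Commute (i * d * i⁻¹) (j * d * j⁻¹) := fun i hi j hj => by
    have h := (hall (j⁻¹ * i) (mul_mem (inv_mem hj) hi)).map (MulAut.conj j).toMonoidHom
    simpa [mul_assoc] using h
  set T : Set G := {x | ∃ j ∈ K, j * d * j⁻¹ * d = x} with hT
  set A := Subgroup.closure T with hA
  have hTK : T ⊆ K := by
    rintro _ ⟨j, hj, rfl⟩
    have : j * (d * j⁻¹ * d) ∈ K := mul_mem hj (by
      have := ‹K.Normal›.conj_mem j⁻¹ (inv_mem hj) d
      rwa [RootInv.inv_eq hD hd] at this)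
    simpa [mul_assoc] using this
  have hTcomm : ∀ x ∈ T, ∀ y ∈ T, Commute x y := by
    rintro _ ⟨i, hi, rfl⟩ _ ⟨j, hj, rfl⟩
    have hdd : Commute d d := Commute.refl d
    exact Commute.mul_left ((hpair i hi j hj).mul_right (hall i hi))
      ((hall j hj).symm.mul_right hdd)
  haveI : IsMulCommutative A := Subgroup.isMulCommutative_closure hTcomm
  have hsqA : ∀ x ∈ A, x * x = 1 := by
    intro x hx
    induction hx using Subgroup.closure_induction with
    | mem x hx =>
      obtain ⟨j, hj, rfl⟩ := hx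
      rw [show j * d * j⁻¹ * d * (j * d * j⁻¹ * d) = j * d * j⁻¹ * (d * (j * d * j⁻¹)) * d by group,
        (hall j hj).symm.eq, show j * d * j⁻¹ * (j * d * j⁻¹ * d) * d = j * (d * d) * j⁻¹ * (d * d) by group,
        RootInv.mul_self hD hd]
      group
    | one => rw [one_mul]
    | mul x y hx hy ihx ihy =>
      have hc : x * y = y * x := congrArg Subtype.val (mul_comm' (⟨x, hx⟩ : A) ⟨y, hy⟩)
      rw [show x * y * (x * y) = x * (y * x) * y by group, ← hc,
        show x * (x * y) * y = x * x * (y * y) by group, ihx, ihy, one_mul]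
    | inv x _ ih => rw [← mul_inv_rev, ih, inv_one]
  have hAK : A ≤ K := (Subgroup.closure_le _).2 hTK
  haveI : (A.subgroupOf K).Normal := ⟨fun x hx i => by
    have hmem : ∀ y ∈ A, (i : G) * y * (i : G)⁻¹ ∈ A := by
      intro y hy
      induction hy using Subgroup.closure_induction with
      | mem y hy =>
        obtain ⟨j, hj, rfl⟩ := hy
        have h1 : (i : G) * j * d * ((i : G) * j)⁻¹ * d ∈ A :=
          Subgroup.subset_closure ⟨_, mul_mem i.2 hj, rfl⟩
        have h2 : (i : G) * d * (i : G)⁻¹ * d ∈ A := Subgroup.subset_closure ⟨_, i.2, rfl⟩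
        have h3 := A.mul_mem h1 (A.inv_mem h2)
        have e : (i : G) * (j * d * j⁻¹ * d) * (i : G)⁻¹ =
            (i : G) * j * d * ((i : G) * j)⁻¹ * d * ((i : G) * d * (i : G)⁻¹ * d)⁻¹ := by
          simp only [mul_inv_rev, inv_inv, RootInv.inv_eq hD hd, ← mul_assoc]
          rw [mul_assoc _ d d, RootInv.mul_self hD hd, mul_one]
          group
        rwa [e]
      | one => simp
      | mul y z _ _ hy hz =>
        rw [show (i : G) * (y * z) * (i : G)⁻¹ = i * y * (i : G)⁻¹ * (i * z * (i : G)⁻¹) by group]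
        exact A.mul_mem hy hz
      | inv y _ hy =>
        rw [show (i : G) * y⁻¹ * (i : G)⁻¹ = ((i : G) * y * (i : G)⁻¹)⁻¹ by group]
        exact A.inv_mem hy
    exact hmem _ hx⟩
  have hp : IsPGroup 2 (A.subgroupOf K) := fun x => ⟨1, Subtype.ext (Subtype.ext (by
    rw [pow_one, sq]; exact hsqA _ x.2))⟩
  have hle := Cores.le_pCore (p := 2) inferInstance hp
  have hmem : k * d * k⁻¹ * d ∈ A := Subgroup.subset_closure ⟨k, hk, rfl⟩
  have h := Subgroup.mem_map_of_mem K.subtype (hle (show (⟨_, hAK hmem⟩ : K) ∈ A.subgroupOf K from hmem))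
  rw [Cores.pCore_map_subtype] at h
  exact h.1

/-- The kernel of the action is the preimage of the centre of `G / O₂(G)`. -/
theorem OddClass.kernel_eq_twoZCore (P : OddClass G Ω D pt) (hD : IsRootInvolutionSet D) {x₀ y₀ : Ω}
    (hxy₀ : x₀ ≠ y₀) {a b : G} (ha : a ∈ D) (hb : b ∈ D) (hab : a * b ∈ D) (hcom : Commute a b) :
    (MulAction.toPermHom G Ω).ker = twoZCore G := by
  haveI : Fact (Nat.Prime 2) := ⟨Nat.prime_two⟩
  set K := (MulAction.toPermHom G Ω).ker with hK
  set q := QuotientGroup.mk' (pCore 2 G)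
  refine le_antisymm (fun k hk => ?_) fun z hz => ?_
  · have hdk : ∀ d ∈ D, Commute (q k) (q d) := fun d hd => by
      have h := (QuotientGroup.eq_one_iff _).2 (conj_mul_mem_pCore P hD hxy₀ ha hb hab hcom hd hk)
      have h' : q k * q d * (q k)⁻¹ * q d = 1 := by rw [← map_inv, ← map_mul, ← map_mul, ← map_mul]; exact h
      rw [mul_eq_one_iff_eq_inv, ← map_inv q d, RootInv.inv_eq hD hd, mul_inv_eq_iff_eq_mul] at h'
      exact h'
    show q k ∈ Subgroup.center _
    refine Subgroup.mem_center_iff.2 fun y => ?_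
    obtain ⟨g, rfl⟩ := QuotientGroup.mk'_surjective _ y
    have hg : g ∈ Subgroup.closure D := hD.generates ▸ Subgroup.mem_top g
    have hC : Commute (q k) (q g) := by
      induction hg using Subgroup.closure_induction with
      | mem x hx => exact hdk x hx
      | one => rw [map_one]; exact Commute.one_right _
      | mul x y _ _ hx hy => rw [map_mul]; exact hx.mul_right hy
      | inv x _ hx => rw [map_inv]; exact hx.inv_right
    exact hC.eq.symm
  · obtain ⟨d₀, hd₀, -⟩ := P.exists_at x₀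
    have hcore : pCore 2 G ≤ K := by
      obtain ⟨pt', P', -⟩ := P.range_image hxy₀
      obtain ⟨o, ho⟩ := (Cores.isPGroup_pCore 2 G).nonempty_fixed_point_of_prime_not_dvd_card Ω
        (Nat.two_dvd_ne_zero.2 (Nat.odd_iff.1 ((P'.pointClass hxy₀).odd_card_points ⟨d₀, hd₀, rfl⟩)))
      intro n hn
      refine Equiv.ext fun p => ?_
      obtain ⟨e, he, hep⟩ := P.exists_at p
      obtain ⟨d, hd, hdo⟩ := P.exists_at o
      obtain ⟨g, hg⟩ := P.exists_smul hxy₀ hd he
      have hgp : g • o = p := by rw [← hdo, ← P.pt_conj g hd, hg, hep]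
      show n • p = p
      have h1 := (Cores.pCore_normal 2 G).conj_mem n hn g⁻¹
      have h2 : (g⁻¹ * n * g⁻¹⁻¹) • o = o := ho ⟨_, h1⟩
      rw [inv_inv, mul_smul, mul_smul, hgp, inv_smul_eq_iff, hgp] at h2
      exact h2
    refine Equiv.ext fun p => ?_
    obtain ⟨e, he, rfl⟩ := P.exists_at p
    show z • pt e = pt e
    refine (P.fixed_iff e he _).1 ?_
    have hc : q (e * z) = q (z * e) := by
      rw [map_mul, map_mul]; exact Subgroup.mem_center_iff.1 hz _
    have hn : (e * z) * (z * e)⁻¹ ∈ K := hcore ((QuotientGroup.eq_one_iff _).1 (by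
      show q ((e * z) * (z * e)⁻¹) = 1
      rw [map_mul, map_inv, hc, mul_inv_cancel]))
    have hs : (e * z) • pt e = (z * e) • pt e := by
      conv_lhs => rw [show e * z = (e * z) * (z * e)⁻¹ * (z * e) by group, mul_smul]
      exact Equiv.ext_iff.1 hn _
    rwa [mul_smul, mul_smul, P.smul_pt he] at hs

end kernel

/-- **S5044**, given the criterion. -/
theorem dichotomy_of_criterion (hA : Aschbacher.CoreFreeCriterion.{u}) (hD : IsRootInvolutionSet D)
    (hDD : (D ∩ commutingProducts D).Nonempty) :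
    IsConnectedSet (CommAdj D) D ∨
    (∃ (F : Type) (_ : Field F) (_ : Fintype F), CharP F 2 ∧ 4 ≤ Fintype.card F ∧
      Nonempty (G ⧸ twoZCore G ≃* Matrix.ProjectiveSpecialLinearGroup (Fin 2) F)) ∨
    Lie.IsoSuzuki (G ⧸ twoZCore G) ∨
    (∃ (F : Type) (_ : Field F) (_ : Fintype F) (q : ℕ), CharP F 2 ∧ Fintype.card F = q ^ 2 ∧ 4 ≤ q ∧
      Nonempty (G ⧸ twoZCore G ≃* PSU 3 F q)) := by
  classical
  by_cases hconn : IsConnectedSet (CommAdj D) D
  · exact Or.inl hconn
  right
  haveI : Fact (Nat.Prime 2) := ⟨Nat.prime_two⟩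
  simp only [IsConnectedSet, not_forall] at hconn
  obtain ⟨z, hz, z', hz', hnot⟩ := hconn
  set B := blockStab hD z
  set pt := Aschbacher.pointOf B z with hptdef
  have P : OddClass G (G ⧸ B) D pt := oddClass hD hz hz' hnot
  have hiff := conj_mem_blockStab_iff hD hz
  obtain ⟨g, hg⟩ := isConj_iff.1 (isConj_of_disconnected hD hz hz' hnot hz')
  have hgB : g ∉ B := fun h => hnot (hg ▸ h)
  have hxy : ((1 : G) : G ⧸ B) ≠ ((g : G) : G ⧸ B) := fun e => hgB (by
    rw [QuotientGroup.eq, inv_one, one_mul] at e; exact e)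
  obtain ⟨c, hcD, a, ha, b, hb, hcom, -, rfl⟩ := hDD
  set φ := MulAction.toPermHom G (G ⧸ B) with hφ
  set f : G →* φ.range := φ.rangeRestrict with hf
  have hfs : Function.Surjective f := MonoidHom.rangeRestrict_surjective _
  obtain ⟨pt', P', -⟩ := P.range_image hxy
  have hgen' : Subgroup.closure (f '' D) = ⊤ := by
    rw [← MonoidHom.map_closure, hD.generates, Subgroup.map_top_of_surjective f hfs]
  obtain ⟨o, hH⟩ := P'.isStronglyEmbedded hA hgen' hxy
  have hcore : (MulAction.stabilizer φ.range o).normalCore = ⊥ := by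
    refine (Subgroup.eq_bot_iff_forall _).2 fun n hn => eq_of_smul_eq_smul fun p : G ⧸ B => ?_
    obtain ⟨e, he, hep⟩ := P'.exists_at p
    obtain ⟨d, hd, hdo⟩ := P'.exists_at o
    obtain ⟨j, hj⟩ := P'.exists_smul hxy hd he
    have hjp : j • o = p := by rw [← hdo, ← P'.pt_conj j hd, hj, hep]
    have h := MulAction.mem_stabilizer_iff.1 ((MulAction.stabilizer φ.range o).normalCore_le
      ((inferInstance : (MulAction.stabilizer φ.range o).normalCore.Normal).conj_mem n hn j⁻¹))
    rw [inv_inv, mul_smul, mul_smul, inv_smul_eq_iff, hjp] at h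
    rw [one_smul]
    exact h
  have hfinv : ∀ d ∈ D, orderOf (f d) = 2 := fun d hd => P'.inv _ ⟨d, hd, rfl⟩
  have h2 : SuzukiRankOne.TwoInvolutions φ.range :=
    ⟨f a, f b, ne_one (hfinv a ha), ne_one (hfinv b hb),
      fun e => ne_one (hfinv _ hcD) (by
        rw [map_mul, e, ← map_mul, RootInv.mul_self hD hb, map_one]),
      mul_self (hfinv a ha), mul_self (hfinv b hb), by rw [← map_mul, ← map_mul, hcom]⟩
  obtain ⟨t, Q, h⟩ := Bender.rankOneHalf _ _ hH hcore h2
  haveI := Bender.faithful_of_normalCore hcore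
  obtain ⟨L, hLn, hodd, hc⟩ := SuzukiRankOne.classify SuzukiRankOne.kernelShape SuzukiRankOne.Suzuki.suzukiShape h h2
  haveI := hLn
  obtain rfl : L = ⊤ := by
    rw [eq_top_iff, ← hgen', Subgroup.closure_le]
    rintro _ ⟨d, hd, rfl⟩
    refine (QuotientGroup.eq_one_iff _).1 (orderOf_eq_one_iff.1 ?_)
    have h1 : orderOf (f d : φ.range ⧸ L) ∣ 2 := hfinv d hd ▸ orderOf_map_dvd (QuotientGroup.mk' L) _
    have h2' : orderOf (f d : φ.range ⧸ L) ∣ L.index := orderOf_dvd_natCard _
    exact Nat.eq_one_of_dvd_coprimes (Nat.coprime_two_left.2 hodd) h1 h2'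
  have hker : twoZCore G = φ.ker := (P.kernel_eq_twoZCore hD hxy ha hb hcD hcom).symm
  let e0 : G ⧸ twoZCore G ≃* (⊤ : Subgroup φ.range) :=
    (QuotientGroup.quotientMulEquivOfEq hker).trans
      ((QuotientGroup.quotientKerEquivRange φ).trans Subgroup.topEquiv.symm)
  rcases hc with ⟨F, _, _, ⟨n, hn, hF⟩, ⟨e⟩⟩ | ⟨F, _, _, m, hm, hF, ⟨e⟩⟩ | ⟨F, _, _, n, hn, hF, ⟨e⟩⟩
  · refine Or.inl ⟨F, inferInstance, inferInstance, charP_of_card_eq_prime_pow hF, ?_, ⟨e0.trans e⟩⟩
    rw [hF]; exact Nat.pow_le_pow_right (by norm_num : 1 ≤ 2) hn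
  · exact Or.inr (Or.inl ⟨F, inferInstance, inferInstance, m, hm, hF, ⟨e0.trans e⟩⟩)
  · exact Or.inr (Or.inr ⟨F, inferInstance, inferInstance, 2 ^ n,
      charP_of_card_eq_prime_pow (f := n * 2) (by rw [hF, pow_mul]), hF,
      Nat.pow_le_pow_right (by norm_num : 1 ≤ 2) hn, ⟨e0.trans e⟩⟩)

end Cfsg.Agent.RootConnected
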