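/-
Non-degenerate classes of root involutions: generation and weak TI subsets (statements S5054 and
S5053, given Aschbacher's criterion and `CoreTwo`; owner: helper90).

Main results (namespace `Cfsg.Agent.RootConnected`):
* `oddConnected` : the graph of odd products is connected
* `exists_four_partner` : two members of a line with different odd partners have a root
* `generation_of_criterion` : the statement of S5054
* `weakTI_of_criterion` : the statement of S5053
-/
import Cfsg.Agent.Lib.RootConnected.Prod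
import Cfsg.Agent.Lib.RankOne.RootInvClass

set_option autoImplicit false
set_option linter.unusedSectionVars false

namespace Cfsg.Agent.RootConnected

open Cfsg Involution

universe u

variable {G : Type u} [Group G] [Finite G] {D : Set G}

theorem oddConnected (hA : Aschbacher.CoreFreeCriterion.{u}) (hB : CoreTwoAll.{u})
    (hnd : IsNondegenerateRootInvolutionSet D) (hcl : IsRootInvolutionClass D) :
    IsConnectedSet (OddAdj D) D := by
  have hD := hcl.1
  obtain ⟨a₀, ha₀, b₀, hb₀, hne, hodd⟩ := hnd.2.2.1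
  have hpart : ∀ d ∈ D, ∃ x ∈ D, RootInv.OddP d x := by
    intro d hd
    obtain ⟨g, rfl⟩ := hcl.2.2 a₀ ha₀ d hd
    exact ⟨g * b₀ * g⁻¹, hD.conj_mem b₀ hb₀ g, RootInv.conj_oddP hD ⟨hne, hodd⟩⟩
  intro a ha b hb
  have h := prodConnected_of_four hA hB hcl hnd.2.2.2 a ha b hb
  induction h with
  | refl => exact .refl
  | tail _ e ih =>
    obtain ⟨x, hx, hpx⟩ := hpart _ e.1
    obtain ⟨y, hy, hqy⟩ := hpart _ e.2.1
    exact (ih e.1).trans (RootInv.reach_of_line hD e.1 e.2.1 e.2.2.2.1.symm e.2.2.2.2 hx hpx hy hqy)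

/-- If `v` and `u` span a line and have different odd partners, `u = (w v) ^ 2` for some `w`. -/
theorem exists_four_partner (hc : IsConnectedSet (OddAdj D) D) (hD : IsRootInvolutionSet D) {u v : G}
    (h : ProdAdj D u v) (hne : oddPartners D v ≠ oddPartners D u) :
    ∃ w ∈ D, RootInv.FourP w v ∧ w * v * (w * v) = u ∧ ProdAdj D u w := by
  obtain ⟨hu, hv, -, hcom, huv⟩ := h
  obtain ⟨y, hy, hvy, huy⟩ : ∃ y ∈ D, RootInv.OddP v y ∧ RootInv.FourP u y := by
    by_contra hall
    push Not at hall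
    refine hne (RootInv.oddPartners_eq_of_subset hD hc hv hu fun y hy => ?_)
    obtain ⟨hyD, hvy⟩ := RootInv.mem_oddPartners.1 hy
    refine RootInv.mem_oddPartners.2 ⟨hyD, ?_⟩
    rcases RootInv.cases' hD hu hyD with h | h | h
    · exact absurd h (RootInv.not_commute_line hD hv hu hyD hcom (hcom ▸ huv) hvy)
    · exact h
    · exact absurd h (hall y hyD hvy)
  obtain ⟨w, hw, hwv, hwu⟩ := RootInv.exists_root hD hv hu hy hcom (hcom ▸ huv) hvy huy
  refine ⟨w, hw, hwv, hwu, ?_⟩
  rw [← hwu]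
  obtain ⟨h1, h2, h3, h4, h5⟩ := (four_lines hD hw hv hwv).1
  exact ⟨h2, h1, h3.symm, h4.symm, h4 ▸ h5⟩

/-- **S5054**, given the criterion and `CoreTwo`. -/
theorem generation_of_criterion (hA : Aschbacher.CoreFreeCriterion.{u}) (hB : CoreTwoAll.{u})
    (hnd : IsNondegenerateRootInvolutionSet D) (hcl : IsRootInvolutionClass D) :
    (∀ d ∈ D, ∀ x ∈ oddPartners D d, Subgroup.closure (productPartners D d ∪ {x}) = ⊤) ∧
      IsConnectedSet (ProdAdj D) D := by
  refine ⟨fun d hd x hx => ?_, prodConnected_of_four hA hB hcl hnd.2.2.2⟩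
  have hD := hcl.1
  have hc := oddConnected hA hB hnd hcl
  set Y := Subgroup.closure (productPartners D d ∪ {x}) with hY
  obtain ⟨hxD, hdx⟩ := RootInv.mem_oddPartners.1 hx
  have hxY : x ∈ Y := Subgroup.subset_closure (Or.inr rfl)
  have hXd : ∀ e, ProdAdj D d e → e ∈ Y := fun e h =>
    Subgroup.subset_closure (Or.inl ⟨⟨h.2.1, h.2.2.2.1.symm, h.2.2.1.symm⟩, h.2.2.2.1 ▸ h.2.2.2.2⟩)
  have hdY : d ∈ Y := by
    obtain ⟨e, he⟩ := exists_line hcl hnd.2.2.2 hd
    have h1 : d * (d * e) = e := by rw [← mul_assoc, RootInv.mul_self hD hd, one_mul]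
    have h2 := Y.mul_mem (hXd (d * e) ⟨hd, he.2.2.2.2,
      fun h => RootInv.ne_one hD he.2.1 (left_eq_mul.1 h), by
        rw [mul_assoc d e d, ← he.2.2.2.1], by rw [h1]; exact he.2.1⟩) (Y.inv_mem (hXd e he))
    rwa [mul_inv_cancel_right] at h2
  set Z : Set G := {u | ∃ k ∈ Y, k * d * k⁻¹ = u} with hZ
  have hclosed : ∀ u ∈ Z, ∀ v, ProdAdj D u v → v ∈ Z := by
    rintro u ⟨k, hk, rfl⟩ v huv
    have hX : ∀ e, ProdAdj D (k * d * k⁻¹) e → e ∈ Y := fun e h => by
      have h' : ProdAdj D d (k⁻¹ * e * k) := by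
        have e1 : ∀ g : G, MulAut.conj k⁻¹ g = k⁻¹ * g * k := fun g => by simp
        have e2 : k⁻¹ * (k * d * k⁻¹) * k = d := by group
        refine ⟨hd, by simpa using hD.conj_mem e h.2.1 k⁻¹, fun he => h.2.2.1 ?_, ?_, ?_⟩
        · rw [he]; group
        · have h1 := ((show Commute _ _ from h.2.2.2.1).map (MulAut.conj k⁻¹).toMonoidHom).eq
          simpa only [MulEquiv.coe_toMonoidHom, e1, e2] using h1
        · have h1 := hD.conj_mem _ h.2.2.2.2 k⁻¹
          rwa [inv_inv, show k⁻¹ * (k * d * k⁻¹ * e) * k = d * (k⁻¹ * e * k) by group] at h1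
      simpa [mul_assoc] using Y.mul_mem (Y.mul_mem hk (hXd _ h')) (Y.inv_mem hk)
    set u := k * d * k⁻¹ with hu
    set x₁ := k * x * k⁻¹ with hx₁
    have huY : u ∈ Y := Y.mul_mem (Y.mul_mem hk hdY) (Y.inv_mem hk)
    have hx₁Y : x₁ ∈ Y := Y.mul_mem (Y.mul_mem hk hxY) (Y.inv_mem hk)
    have huD : u ∈ D := huv.1
    have hvD : v ∈ D := huv.2.1
    have hx₁D : x₁ ∈ D := hD.conj_mem x hxD k
    have hux : RootInv.OddP u x₁ := RootInv.conj_oddP hD hdx
    have hvY : v ∈ Y := hX v huv
    have conjY : ∀ {p q : G}, p ∈ Y → q ∈ Y → p ∈ D → q ∈ D → RootInv.OddP p q → p ∈ Z → q ∈ Z := by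
      rintro p q hp hq hpD hqD hpq ⟨j, hj, rfl⟩
      obtain ⟨g, hg, hgq⟩ := exists_conj_of_odd (hD.orderOf_eq _ hpD) (hD.orderOf_eq q hqD) hpq.2
      have hgY : g ∈ Y := (Subgroup.closure_le _).2 (by rintro _ (rfl | rfl) <;> assumption) hg
      exact ⟨g * j, Y.mul_mem hgY hj, by rw [← hgq]; group⟩
    have hxZ : x₁ ∈ Z := conjY huY hx₁Y huD hx₁D hux ⟨k, hk, rfl⟩
    obtain ⟨y, hyY, hyD, hyZ, hvy⟩ :
        ∃ y ∈ Y, y ∈ D ∧ y ∈ Z ∧ RootInv.OddP v y := by
      rcases RootInv.cases' hD hvD hx₁D with h | h | h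
      · exact absurd h (RootInv.not_commute_line hD huD hvD hx₁D huv.2.2.2.1.symm huv.2.2.2.2 hux)
      · exact ⟨x₁, hx₁Y, hx₁D, hxZ, h⟩
      · have hne : oddPartners D v ≠ oddPartners D u := fun e => RootInv.not_odd_of_four hD h
          (RootInv.mem_oddPartners.1 (e.symm ▸ RootInv.mem_oddPartners.2 ⟨hx₁D, hux⟩)).2
        obtain ⟨w, hw, hwv, hwu, hline⟩ := exists_four_partner hc hD huv hne
        have hwY := hX w hline
        refine ⟨w * x₁ * w⁻¹, Y.mul_mem (Y.mul_mem hwY hx₁Y) (Y.inv_mem hwY), hD.conj_mem x₁ hx₁D w, ?_, ?_⟩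
        · obtain ⟨j, hj, hjx⟩ := hxZ
          exact ⟨w * j, Y.mul_mem hwY hj, by rw [← hjx]; group⟩
        · have h1 : RootInv.OddP (u * v) x₁ := RootInv.translate hD huD hx₁D hvD hux
            huv.2.2.2.1.symm huv.2.2.2.2 h
          have h2 : w * (u * v) * w⁻¹ = v := by
            rw [← hwu, RootInv.inv_eq hD hw, show w * (w * v * (w * v) * v) * w =
              w * w * v * w * (v * v) * w by group, RootInv.mul_self hD hw, one_mul,
              RootInv.mul_self hD hvD, mul_one, mul_assoc v w w, RootInv.mul_self hD hw, mul_one]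
          exact h2 ▸ RootInv.conj_oddP hD (g := w) h1
    exact conjY hyY hvY hyD hvD (RootInv.oddP_symm hD hvD hyD hvy) hyZ
  rw [eq_top_iff, ← hD.generates, Subgroup.closure_le]
  intro e he
  have h := prodConnected_of_four hA hB hcl hnd.2.2.2 d hd e he
  have hmem : e ∈ Z := by
    clear he
    induction h with
    | refl => exact ⟨1, Y.one_mem, by rw [one_mul, inv_one, mul_one]⟩
    | tail _ s ih => exact hclosed _ ih _ s
  obtain ⟨k, hk, rfl⟩ := hmem
  exact Y.mul_mem (Y.mul_mem hk hdY) (Y.inv_mem hk)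

/-- **S5053**, given the criterion and `CoreTwo`. -/
theorem weakTI_of_criterion (hA : Aschbacher.CoreFreeCriterion.{u}) (hB : CoreTwoAll.{u})
    (hnd : IsNondegenerateRootInvolutionSet D) (hcl : IsRootInvolutionClass D) {T : Set G}
    (hT : IsWeakTISubsetOfElements D T) : IsMulCommutative ↥(Subgroup.closure T) := by
  have hD := hcl.1
  obtain ⟨hTD, ⟨t₀, ht₀, -⟩, hTne, hTI⟩ := hT
  have hc := oddConnected hA hB hnd hcl
  let N : Subgroup G :=
    { carrier := {g | (fun t => g * t * g⁻¹) '' T = T}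
      one_mem' := by simp
      mul_mem' := fun {a b} (ha : (fun t => a * t * a⁻¹) '' T = T) (hb : (fun t => b * t * b⁻¹) '' T = T) => by
        show (fun t => a * b * t * (a * b)⁻¹) '' T = T
        conv_rhs => rw [← ha, ← hb, Set.image_image]
        exact Set.image_congr fun t _ => by group
      inv_mem' := fun {a} (ha : (fun t => a * t * a⁻¹) '' T = T) => by
        show (fun t => a⁻¹ * t * a⁻¹⁻¹) '' T = T
        conv_lhs => rw [← ha, Set.image_image]
        simp [mul_assoc] }
  have hCN : ∀ a ∈ T, ∀ e ∈ D, Commute e a → e ∈ N := by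
    intro a ha e he hea
    rcases hTI e he with h | h
    · exact h
    · exact absurd ha (fun ha => Set.disjoint_left.1 h ⟨a, ha, by
        show e * a * e⁻¹ = a
        rw [hea.eq, mul_inv_cancel_right]⟩ ha)
  have hmove : ∀ g ∈ N, ∀ t ∈ T, g * t * g⁻¹ ∈ T := fun g hg t ht => hg.subset ⟨t, ht, rfl⟩
  have hbig : ∀ a ∈ T, ∀ y ∈ D, y ∈ N → RootInv.OddP a y → False := by
    intro a ha y hy hyN hay
    have htop := (generation_of_criterion hA hB hnd hcl).1 a (hTD ha) y
      (RootInv.mem_oddPartners.2 ⟨hy, hay⟩)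
    have hN : N = ⊤ := top_le_iff.1 (htop ▸ (Subgroup.closure_le N).2 (by
      rintro e (⟨⟨he, hea, -⟩, -⟩ | rfl)
      · exact hCN a ha e he hea
      · exact hyN))
    refine hTne (Set.Subset.antisymm hTD fun e he => ?_)
    obtain ⟨g, rfl⟩ := hcl.2.2 a (hTD ha) e he
    exact hmove g (hN ▸ Subgroup.mem_top g) a ha
  have hcomm : ∀ a ∈ T, ∀ b ∈ T, a * b = b * a := by
    intro a ha b hb
    have haD := hTD ha
    have hbD := hTD hb
    rcases RootInv.cases' hD haD hbD with h | h | h
    · exact h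
    · exact (hbig a ha b hbD (hCN b hb b hbD (Commute.refl b)) h).elim
    · exfalso
      set z := a * b * (a * b) with hz
      have hzD : z ∈ D := RootInv.four_mem hD haD hbD h
      have hza : Commute z a := RootInv.four_commute_left hD haD hbD h
      obtain ⟨h1, h2, h3, h4, h5⟩ := (four_lines hD haD hbD h).2
      have hline : ProdAdj D b z := ⟨h2, h1, h3.symm, h4.symm, h4 ▸ h5⟩
      have hne : oddPartners D z ≠ oddPartners D b := fun e => RootInv.not_commute_of_four hD haD hbD h
        (RootInv.commute_transfer hD hc hzD hbD haD e.symm hza.eq.symm)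
      obtain ⟨w, hw, hwz, hwb, hbw⟩ := exists_four_partner hc hD hline hne
      refine hbig a ha w hw (hCN b hb w hw hbw.2.2.2.1.symm) ?_
      rcases RootInv.cases' hD haD hw with h' | h' | h'
      · exfalso
        refine RootInv.not_commute_of_four hD haD hbD h ?_
        have hca : Commute a (w * z) := (show Commute a w from h').mul_right hza.symm
        exact hwb ▸ (hca.mul_right hca).eq
      · exact h'
      · exfalso
        refine RootInv.ne_one hD hzD (RootInv.no_flip (RootInv.mul_self hD hw) (RootInv.mul_self hD haD)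
          (RootInv.mul_self hD hzD) hza.eq hwb.symm (RootInv.mul_self hD hbD)
          (RootInv.four_pow hD (RootInv.fourP_symm hD haD hw h')) ?_)
        rw [h4.symm, show a * b * (a * b) * b = a * b * a * (b * b) by group,
          RootInv.mul_self hD hbD, mul_one]
  exact Subgroup.isMulCommutative_closure hcomm

end Cfsg.Agent.RootConnected
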