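/-
The graph of commuting pairs with product in the class is connected for a class of root involutions
with a pair of product order four, given Aschbacher's criterion and `CoreTwo` (owner: helper90).

Main results (namespace `Cfsg.Agent.RootConnected`):
* `prodReach_of_four`, `commute_of_prodReach` : components are uniformly commuting or odd
* `exists_four_at`, `exists_line` : every member lies on a line
* `prodConnected_of_four` : the graph is connected
-/
import Cfsg.Agent.Lib.RootConnected.Connected

set_option autoImplicit false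
set_option linter.unusedSectionVars false

namespace Cfsg.Agent.RootConnected

open Cfsg Involution

universe u

variable {G : Type u} [Group G] {D : Set G}

theorem prodReach_mem {a b : G} (ha : a ∈ D) (h : Relation.ReflTransGen (ProdAdj D) a b) : b ∈ D := by
  induction h with
  | refl => exact ha
  | tail _ e _ => exact e.2.1

theorem prodReach_symm {a b : G} (h : Relation.ReflTransGen (ProdAdj D) a b) :
    Relation.ReflTransGen (ProdAdj D) b a := by
  induction h with
  | refl => exact .refl
  | tail _ e ih => exact .head ⟨e.2.1, e.1, e.2.2.1.symm, e.2.2.2.1.symm, e.2.2.2.1 ▸ e.2.2.2.2⟩ ih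

section set

variable (hD : IsRootInvolutionSet D)
include hD

/-- A four pair and its square form two lines. -/
theorem four_lines {a b : G} (ha : a ∈ D) (hb : b ∈ D) (h : RootInv.FourP a b) :
    ProdAdj D a (a * b * (a * b)) ∧ ProdAdj D (a * b * (a * b)) b := by
  set z := a * b * (a * b) with hz
  have hzD : z ∈ D := RootInv.four_mem hD ha hb h
  have hza := RootInv.four_commute_left hD ha hb h
  have hzb := RootInv.four_commute_right hD ha hb h
  have haz : a * z = b * a * b := by
    rw [hz, show a * (a * b * (a * b)) = a * a * (b * a * b) by group, RootInv.mul_self hD ha, one_mul]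
  have hzb' : z * b = a * b * a := by
    rw [hz, show a * b * (a * b) * b = a * b * a * (b * b) by group, RootInv.mul_self hD hb, mul_one]
  refine ⟨⟨ha, hzD, fun e => ?_, hza.eq.symm, haz ▸ RootInv.conj_mem' hD ha hb⟩,
    ⟨hzD, hb, fun e => ?_, hzb.eq, hzb' ▸ RootInv.conj_mem' hD hb ha⟩⟩
  · exact RootInv.not_commute_of_four hD ha hb h ((e ▸ hzb : Commute a b).eq)
  · exact RootInv.not_commute_of_four hD ha hb h ((e ▸ hza : Commute b a).eq.symm)

theorem prodReach_of_four {a b : G} (ha : a ∈ D) (hb : b ∈ D) (h : RootInv.FourP a b) :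
    Relation.ReflTransGen (ProdAdj D) a b :=
  (Relation.ReflTransGen.single (four_lines hD ha hb h).1).tail (four_lines hD ha hb h).2

theorem prodReach_conj (g : G) {a b : G} (h : Relation.ReflTransGen (ProdAdj D) a b) :
    Relation.ReflTransGen (ProdAdj D) (g * a * g⁻¹) (g * b * g⁻¹) := by
  induction h with
  | refl => exact .refl
  | tail _ e ih =>
    refine ih.tail ⟨hD.conj_mem _ e.1 g, hD.conj_mem _ e.2.1 g,
      fun h => e.2.2.1 (mul_left_cancel (mul_right_cancel h)),
      ((show Commute _ _ from e.2.2.2.1).map (MulAut.conj g).toMonoidHom).eq, ?_⟩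
    have h := hD.conj_mem _ e.2.2.2.2 g
    rwa [conj_mul]

/-- A member outside a component commutes with all of it or with none of it. -/
theorem commute_of_prodReach {a b u : G} (hu : u ∈ D) (hab : Relation.ReflTransGen (ProdAdj D) a b)
    (hau : ¬ Relation.ReflTransGen (ProdAdj D) a u) (hc : a * u = u * a) : b * u = u * b := by
  induction hab with
  | refl => exact hc
  | @tail b c hab' e ih =>
    rcases RootInv.cases' hD e.2.1 hu with h | h | h
    · exact h
    · exact absurd ih (RootInv.not_commute_line hD e.2.1 e.1 hu e.2.2.2.1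
        (e.2.2.2.1 ▸ e.2.2.2.2) h)
    · exact absurd ((hab'.tail e).trans (prodReach_of_four hD e.2.1 hu h)) hau

theorem commute_iff_of_prodReach {a a' u u' : G} (ha : a ∈ D) (hu : u ∈ D)
    (haa : Relation.ReflTransGen (ProdAdj D) a a') (huu : Relation.ReflTransGen (ProdAdj D) u u')
    (hau : ¬ Relation.ReflTransGen (ProdAdj D) a u) (hc : a * u = u * a) : a' * u' = u' * a' := by
  have h1 := commute_of_prodReach hD hu haa hau hc
  have hn : ¬ Relation.ReflTransGen (ProdAdj D) u a' := fun h =>
    hau (haa.trans (prodReach_symm h))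
  exact (commute_of_prodReach hD (prodReach_mem ha haa) huu hn h1.symm).symm

theorem odd_of_not_prodReach {a u : G} (ha : a ∈ D) (hu : u ∈ D)
    (h : ¬ Relation.ReflTransGen (ProdAdj D) a u) (hc : a * u ≠ u * a) :
    Odd (orderOf (a * u)) := by
  rcases RootInv.cases' hD ha hu with h' | h' | h'
  · exact absurd h' hc
  · exact h'.2
  · exact absurd (prodReach_of_four hD ha hu h') h

end set

/-- In a class with a four pair every member has a four partner. -/
theorem exists_four_at (hcl : IsRootInvolutionClass D) (hfour : ∃ a ∈ D, ∃ b ∈ D, orderOf (a * b) = 4)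
    {d : G} (hd : d ∈ D) : ∃ e ∈ D, RootInv.FourP d e := by
  obtain ⟨a, ha, b, hb, hab⟩ := hfour
  obtain ⟨g, rfl⟩ := hcl.2.2 a ha d hd
  refine ⟨g * b * g⁻¹, hcl.1.conj_mem b hb g, ?_⟩
  show orderOf _ = 4
  rw [conj_mul, Involution.orderOf_conj, hab]

theorem exists_line (hcl : IsRootInvolutionClass D) (hfour : ∃ a ∈ D, ∃ b ∈ D, orderOf (a * b) = 4)
    {d : G} (hd : d ∈ D) : ∃ e, ProdAdj D d e :=
  let ⟨_, he, h⟩ := exists_four_at hcl hfour hd
  ⟨_, (four_lines hcl.1 hd he h).1⟩

theorem not_central [Finite G] (hcl : IsRootInvolutionClass D)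
    (hfour : ∃ a ∈ D, ∃ b ∈ D, orderOf (a * b) = 4) {c : G} (hc : c ∈ D) :
    ∃ g : G, g * c ≠ c * g := by
  obtain ⟨a, ha, b, hb, hab⟩ := hfour
  by_contra h
  push Not at h
  have key : ∀ x ∈ D, x = c := fun x hx => by
    obtain ⟨g, rfl⟩ := hcl.2.2 c hc x hx
    rw [h g, mul_inv_cancel_right]
  exact RootInv.not_commute_of_four hcl.1 ha hb hab (by rw [key a ha, key b hb])

/-- **Connectedness of lines.** -/
theorem prodConnected_of_four [Finite G] (hA : Aschbacher.CoreFreeCriterion.{u}) (hB : CoreTwoAll.{u})
    (hcl : IsRootInvolutionClass D) (hfour : ∃ a ∈ D, ∃ b ∈ D, orderOf (a * b) = 4) :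
    IsConnectedSet (ProdAdj D) D := by
  suffices h : ∀ (n : ℕ) (X : Type u) [Group X] [Finite X], Nat.card X = n → ∀ E : Set X,
      IsRootInvolutionClass E → (∃ a ∈ E, ∃ b ∈ E, orderOf (a * b) = 4) →
      IsConnectedSet (ProdAdj E) E from h _ G rfl D hcl hfour
  clear hcl hfour
  intro n
  induction n using Nat.strong_induction_on with
  | _ n IH =>
  intro X _ _ hn E hcl hfour
  have hD := hcl.1
  -- two commuting members in different components never see an odd pair
  have key : ∀ {a c b : X}, a ∈ E → c ∈ E → b ∈ E → ¬ Relation.ReflTransGen (ProdAdj E) a b →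
      ¬ Relation.ReflTransGen (ProdAdj E) a c → ¬ Relation.ReflTransGen (ProdAdj E) b c →
      a * c = c * a → b * c = c * b → a * b ≠ b * a → False := by
    intro a c b ha hc hb hab hac hbc hcac hcbc hnab
    set gen : Set X := {x | Relation.ReflTransGen (ProdAdj E) a x ∨ Relation.ReflTransGen (ProdAdj E) b x}
      with hgen
    set Y := Subgroup.closure gen with hY
    have hYc : ∀ y ∈ Y, Commute y c := fun y hy => mem_centralizer_iff_commute.1
      ((Subgroup.closure_le _).2 (by
        rintro x (hx | hx)
        · exact mem_centralizer_iff_commute.2 (commute_of_prodReach hD hc hx hac hcac)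
        · exact mem_centralizer_iff_commute.2 (commute_of_prodReach hD hc hx hbc hcbc)) hy)
    have hYtop : Y ≠ ⊤ := fun e => by
      obtain ⟨g, hg⟩ := not_central hcl hfour hc
      exact hg (hYc g (e ▸ Subgroup.mem_top g)).eq
    -- the class of `a` in `Y`
    set E' : Set Y := {x | ∃ y : Y, ((y * x * y⁻¹ : Y) : X) ∈ gen} with hE'
    have hgenY : gen ⊆ Y := Subgroup.subset_closure
    have hgenE : ∀ x ∈ gen, x ∈ E := by
      rintro x (hx | hx)
      exacts [prodReach_mem ha hx, prodReach_mem hb hx]
    have hE'E : ∀ x ∈ E', (x : X) ∈ E := by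
      rintro x ⟨y, hy⟩
      have h := hD.conj_mem _ (hgenE _ hy) (y : X)⁻¹
      simp only [Subgroup.coe_mul, InvMemClass.coe_inv] at h
      simpa [mul_assoc] using h
    have hclosed : ∀ {x : Y} {e : X}, x ∈ E' → Relation.ReflTransGen (ProdAdj E) (x : X) e →
        ∃ he : e ∈ Y, (⟨e, he⟩ : Y) ∈ E' := by
      rintro x e ⟨y, hy⟩ hxe
      have h := prodReach_conj hD (y : X) hxe
      simp only [Subgroup.coe_mul, InvMemClass.coe_inv] at hy
      have hg : (y : X) * e * (y : X)⁻¹ ∈ gen := by
        rcases hy with hy | hy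
        exacts [Or.inl (hy.trans h), Or.inr (hy.trans h)]
      have heY : e ∈ Y := by
        have h := Y.mul_mem (Y.mul_mem (Y.inv_mem y.2) (hgenY hg)) y.2
        simpa [mul_assoc] using h
      exact ⟨heY, y, hg⟩
    have hgenE' : ∀ (x : X) (hx : x ∈ gen), (⟨x, hgenY hx⟩ : Y) ∈ E' := fun x hx =>
      ⟨1, by simpa using hx⟩
    let aY : Y := ⟨a, hgenY (Or.inl .refl)⟩
    have hodd : ∀ {p q : X}, Relation.ReflTransGen (ProdAdj E) a p →
        Relation.ReflTransGen (ProdAdj E) b q → Odd (orderOf (p * q)) := fun {p q} hp hq => by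
      refine odd_of_not_prodReach hD (prodReach_mem ha hp) (prodReach_mem hb hq)
        (fun h => hab ((hp.trans h).trans (prodReach_symm hq))) fun h => hnab ?_
      exact commute_iff_of_prodReach hD (prodReach_mem ha hp) (prodReach_mem hb hq) (prodReach_symm hp)
        (prodReach_symm hq) (fun h' => hab ((hp.trans h').trans (prodReach_symm hq))) h
    have hconjAB : ∀ (p q : Y), Relation.ReflTransGen (ProdAdj E) a (p : X) →
        Relation.ReflTransGen (ProdAdj E) b (q : X) → IsConj p q := fun p q hp hq =>
      isConj_of_odd (by rw [← Subgroup.orderOf_coe]; exact hD.orderOf_eq _ (prodReach_mem ha hp))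
        (by rw [← Subgroup.orderOf_coe]; exact hD.orderOf_eq _ (prodReach_mem hb hq))
        (by rw [← Subgroup.orderOf_coe, Subgroup.coe_mul]; exact hodd hp hq)
    have hclass : ∀ x ∈ E', IsConj aY x := by
      rintro x ⟨y, hy⟩
      refine IsConj.trans ?_ (isConj_iff.2 ⟨y⁻¹, by group⟩ : IsConj (y * x * y⁻¹) x)
      let bY : Y := ⟨b, hgenY (Or.inr .refl)⟩
      rcases hy with hy | hy
      · exact (hconjAB aY bY .refl .refl).trans (hconjAB _ bY hy .refl).symm
      · exact hconjAB aY _ .refl hy
    have hfour' : ∀ {p q : Y}, p ∈ E' → q ∈ E' → RootInv.FourP (p : X) (q : X) →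
        p * q * (p * q) ∈ E' := fun {p q} hp hq h => by
      obtain ⟨_, hz⟩ := hclosed hp (Relation.ReflTransGen.single
        (four_lines hD (hE'E p hp) (hE'E q hq) h).1)
      exact hz
    have hcl' : IsRootInvolutionClass E' := by
      refine ⟨⟨fun x hx => ?_, ?_, fun x hx g => ?_, fun p hp q hq => ?_⟩,
        ⟨aY, hgenE' a (Or.inl .refl)⟩, fun p hp q hq => ?_⟩
      · rw [← Subgroup.orderOf_coe]; exact hD.orderOf_eq _ (hE'E x hx)
      · rw [eq_top_iff]
        rintro ⟨x, hx⟩ -
        induction hx using Subgroup.closure_induction with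
        | mem w hw => exact Subgroup.subset_closure (hgenE' w hw)
        | one => exact one_mem _
        | mul u v hu hv iu iv => exact mul_mem iu iv
        | inv u hu iu => exact inv_mem iu
      · obtain ⟨y, hy⟩ := hx
        refine ⟨y * g⁻¹, ?_⟩
        rw [show y * g⁻¹ * (g * x * g⁻¹) * (y * g⁻¹)⁻¹ = y * x * y⁻¹ by group]
        exact hy
      · rcases RootInv.cases' hD (hE'E p hp) (hE'E q hq) with h | h | h
        · exact Or.inl (Subtype.ext h)
        · exact Or.inr (Or.inl (by rw [← Subgroup.orderOf_coe]; exact h.2))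
        · exact Or.inr (Or.inr ⟨by rw [← Subgroup.orderOf_coe]; exact h, by
            rw [sq]; exact hfour' hp hq h⟩)
      · obtain ⟨g, hg⟩ := isConj_iff.1 ((hclass p hp).symm.trans (hclass q hq))
        exact ⟨g, hg.symm⟩
    obtain ⟨e, he, hae⟩ := exists_four_at hcl hfour ha
    have hge : e ∈ gen := Or.inl (prodReach_of_four hD ha he hae)
    have hconn := IH (Nat.card Y) (by
      rw [← hn]
      exact lt_of_le_of_ne (Subgroup.card_le_card_group Y) fun h => hYtop (Y.eq_top_of_card_eq h))
      Y rfl E' hcl' ⟨aY, hgenE' a (Or.inl .refl), ⟨e, hgenY hge⟩, hgenE' e hge, by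
        rw [← Subgroup.orderOf_coe]; exact hae⟩
      aY (hgenE' a (Or.inl .refl)) ⟨b, hgenY (Or.inr .refl)⟩ (hgenE' b (Or.inr .refl))
    refine hab ?_
    have lift : ∀ x : Y, Relation.ReflTransGen (ProdAdj E') aY x →
        Relation.ReflTransGen (ProdAdj E) a (x : X) := by
      intro x hx
      induction hx with
      | refl => exact .refl
      | tail _ s ih =>
        exact ih.tail ⟨hE'E _ s.1, hE'E _ s.2.1, fun h => s.2.2.1 (Subtype.ext h),
          congrArg Subtype.val s.2.2.2.1, hE'E _ s.2.2.2.2⟩
    exact lift _ hconn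
  -- the commuting members outside a component
  intro a ha b hb
  by_contra hab
  have hcc := commConnected_of_four hA hB hD hfour
  -- every other component commutes with that of `a`
  have hall : ∀ x ∈ E, ¬ Relation.ReflTransGen (ProdAdj E) a x → a * x = x * a := by
    intro x hx hax
    by_contra hnc
    have hwalk : ∀ y, Relation.ReflTransGen (CommAdj E) a y →
        Relation.ReflTransGen (ProdAdj E) a y ∨ a * y = y * a := by
      intro y hy
      induction hy with
      | refl => exact Or.inl .refl
      | @tail p q _ s ih =>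
        by_cases haq : Relation.ReflTransGen (ProdAdj E) a q
        · exact Or.inl haq
        refine Or.inr (by_contra fun hq => ?_)
        by_cases hap : Relation.ReflTransGen (ProdAdj E) a p
        · exact hq (commute_of_prodReach hD s.2.1 (prodReach_symm hap)
            (fun h => haq (hap.trans h)) s.2.2.2)
        · have hac := ih.resolve_left hap
          by_cases hqp : Relation.ReflTransGen (ProdAdj E) q p
          · exact hq (commute_iff_of_prodReach hD ha s.1 .refl (prodReach_symm hqp) hap hac)
          · exact key ha s.1 s.2.1 haq hap hqp hac s.2.2.2.symm hq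
    exact (hwalk x (hcc a ha x hx)).elim hax hnc
  -- so every member fixes the component of `a`
  have hfix : ∀ g : X, Relation.ReflTransGen (ProdAdj E) a (g * a * g⁻¹) := by
    intro g
    have hg : g ∈ Subgroup.closure E := by rw [hD.generates]; exact Subgroup.mem_top g
    induction hg using Subgroup.closure_induction with
    | mem w hw =>
      by_cases haw : Relation.ReflTransGen (ProdAdj E) a w
      · have h := prodReach_conj hD w haw
        rw [mul_inv_cancel_right] at h
        exact haw.trans (prodReach_symm h)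
      · rw [← hall w hw haw, mul_inv_cancel_right]
    | one => rw [one_mul, inv_one, mul_one]
    | mul u v _ _ iu iv =>
      have h := prodReach_conj hD u iv
      rw [show u * (v * a * v⁻¹) * u⁻¹ = u * v * a * (u * v)⁻¹ by group] at h
      exact iu.trans h
    | inv u _ iu =>
      have h := prodReach_symm (prodReach_conj hD u⁻¹ iu)
      rwa [show u⁻¹ * (u * a * u⁻¹) * u⁻¹⁻¹ = a by group] at h
  obtain ⟨g, rfl⟩ := hcl.2.2 a ha b hb
  exact hab (hfix g)

end Cfsg.Agent.RootConnected
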